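import Cfsg.Agent.Lib.LieChambers.Classical
import Cfsg.Agent.Lib.AutPSL.Main
import Cfsg.Agent.Lib.AutPSL.Card
import Cfsg.Agent.Lib.AutPSL.Sylow

/-!
Automorphisms of order prime to `p` centralising a Sylow `p`-subgroup: `PSL_n(q)`.
-/

set_option autoImplicit false
set_option linter.unusedSectionVars false
set_option linter.style.haveILetI false

namespace Cfsg.Agent.Lib.LieChambers

open Matrix
open Cfsg.Agent.Lib.AutPSL
open scoped MatrixGroups

variable {n : ℕ} {F : Type*} [Field F] [Fintype F] (p : ℕ) [Fact p.Prime] [CharP F p]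

local notation "Mn" => Matrix (Fin n) (Fin n) F
local notation "SLn" => Matrix.SpecialLinearGroup (Fin n) F
local notation "PSLn" => Matrix.ProjectiveSpecialLinearGroup (Fin n) F

/-- The upper root elements lie in a common Sylow subgroup. -/
theorem exists_sylow_upper :
    ∃ P : Sylow p PSLn, ∀ i j : Fin n, i < j → ∀ t : F, xr i j t ∈ (P : Subgroup PSLn) := by
  obtain ⟨f, -, hF⟩ := FiniteField.card F p
  have hU : IsPGroup p (uni n F) := IsPGroup.of_card (by rw [card_uni, hF, ← pow_mul])
  obtain ⟨P, hP⟩ := (hU.map (QuotientGroup.mk' (Subgroup.center SLn))).exists_le_sylow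
  refine ⟨P, fun i j hij t => hP ?_⟩
  rw [xr_eq_mk hij.ne]
  refine Subgroup.mem_map_of_mem _ (mem_uni_iff.2 ⟨fun k => ?_, fun a b hab => ?_⟩)
  · rw [Matrix.SpecialLinearGroup.transvection_coe, Matrix.add_apply, Matrix.one_apply_eq,
      Matrix.single_apply, if_neg (fun h => hij.ne (h.1.trans h.2.symm)), add_zero]
  · have hba : b < a := hab
    rw [Matrix.SpecialLinearGroup.transvection_coe, Matrix.add_apply, Matrix.one_apply_ne hba.ne',
      Matrix.single_apply, if_neg (fun e : i = a ∧ j = b => lt_asymm hij (by rw [e.1, e.2]; exact hba)), add_zero]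

/-- An automorphism of order prime to `p` fixing the upper root elements is trivial. -/
theorem eq_one_of_fix_upper (hn : 2 ≤ n) (α : MulAut PSLn) (hα : ¬ p ∣ orderOf α)
    (h : ∀ i j : Fin n, i < j → ∀ t : F, α (xr i j t) = xr i j t) : α = 1 := by
  classical
  obtain ⟨g, τ, γ, hγ, rfl⟩ := exists_decomp hn α
  rcases hγ with rfl | ⟨h3, rfl⟩
  swap
  · exfalso
    have hpar : ∀ i j : Fin n, i < j → Par ((g : Mn) *ᵥ Pi.single j 1) (Pi.single i 1) := by
      intro i j hij
      refine conj_fieldAut_image hn (σ := τ) hij.ne' hij.ne (t := -1) ?_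
      have h1 := h i j hij (-1)
      rw [MulAut.mul_apply, xr, invT_rootElt (isPair_single hij.ne).orth, neg_neg] at h1
      exact h1
    have h02 : (⟨0, by omega⟩ : Fin n) < ⟨2, by omega⟩ := by simp
    have h12 : (⟨1, by omega⟩ : Fin n) < ⟨2, by omega⟩ := by simp
    exact not_par_single (i := (⟨0, by omega⟩ : Fin n)) (j := ⟨1, by omega⟩) (by simp)
      (((hpar _ _ h02).symm (by simp)).trans (hpar _ _ h12))
  simp only [mul_one] at h hα ⊢
  set a : Fin n := ⟨0, by omega⟩ with ha
  set z : Fin n := ⟨n - 1, by omega⟩ with hz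
  have haz : a ≠ z := fun e => by simp [ha, hz] at e; omega
  have him : ∀ i j : Fin n, i < j → ((g : Mn) *ᵥ Pi.single i 1) ≠ 0 ∧
      Par ((g : Mn) *ᵥ Pi.single i 1) (Pi.single i 1) ∧
      Par (Pi.single j 1 ᵥ* ((g⁻¹ : GL (Fin n) F) : Mn)) (Pi.single j 1) := by
    intro i j hij
    have h1 := h i j hij 1
    rw [MulAut.mul_apply, fieldAut_xr τ hij.ne, map_one, xr,
      conjAut_rootElt _ (isPair_single hij.ne).orth] at h1
    exact ⟨((isPair_single (F := F) hij.ne).conj g).ne_v, par_of_mem_rootSet hn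
      ((isPair_single hij.ne).conj g) (isPair_single hij.ne) ⟨1, rfl⟩ ⟨1, h1.symm⟩
      (rootElt_ne_one hn ((isPair_single hij.ne).conj g) one_ne_zero)⟩
  have hcol : ∀ i k : Fin n, i < z → k ≠ i → (g : Mn) k i = 0 := by
    intro i k hi hki
    obtain ⟨c, hc⟩ := (him i z hi).2.1
    have hc0 : c ≠ 0 := Par.scalar_ne_zero hc (by simp)
    have := congrFun hc k
    simpa [hki, hc0, Matrix.mulVec_single] using this
  have hrow : ∀ j k : Fin n, a < j → k ≠ j → (g : Mn) j k = 0 := by
    intro j k hj hkj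
    obtain ⟨c, hc⟩ := (him a j hj).2.2
    have hc0 : c ≠ 0 := Par.scalar_ne_zero hc (by simp)
    have h1 := congrArg (fun v => v ᵥ* (g : Mn)) hc
    simp only [Matrix.smul_vecMul, Matrix.vecMul_vecMul, Units.inv_mul, Matrix.vecMul_one] at h1
    have := congrFun h1 k
    simpa [hkj, hc0] using this
  have hoff : ∀ j k : Fin n, j ≠ k → ¬ (j = a ∧ k = z) → (g : Mn) j k = 0 := by
    intro j k hjk hne
    by_cases hj : j = a
    · subst hj
      refine hcol k a ?_ hjk
      rcases lt_or_ge k z with hk | hk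
      · exact hk
      · exact absurd ⟨rfl, le_antisymm (Fin.le_iff_val_le_val.2 (by
          have := k.2; simp only [hz]; omega)) hk⟩ hne
    · refine hrow j k ?_ (Ne.symm hjk)
      exact lt_of_le_of_ne (Fin.le_iff_val_le_val.2 (by simp [ha])) (Ne.symm hj)
  have hne : ∀ i, (g : Mn) i i ≠ 0 := by
    intro i h0
    have hu := ((Matrix.isUnit_iff_isUnit_det _).1 g.isUnit).ne_zero
    rw [Matrix.det_of_upperTriangular] at hu
    · exact hu (Finset.prod_eq_zero (Finset.mem_univ i) h0)
    · intro j k hkj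
      refine hoff j k (ne_of_gt hkj) ?_
      rintro ⟨rfl, rfl⟩
      have : (z : ℕ) < a := hkj
      simp [ha] at this
  let d : Fin n → Fˣ := fun i => Units.mk0 _ (hne i)
  let T : SLn := Matrix.SpecialLinearGroup.transvection haz ((g : Mn) a z / (g : Mn) a a)
  have hg : g = (⟨diagonal fun k => (d k : F), diagonal fun k => ((d k)⁻¹ : Fˣ), by simp, by simp⟩ :
      GL (Fin n) F) * Matrix.SpecialLinearGroup.toGL T := by
    apply Units.ext
    ext j k
    have hval : (Matrix.SpecialLinearGroup.toGL T : Mn) =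
        1 + Matrix.single a z ((g : Mn) a z / (g : Mn) a a) :=
      Matrix.SpecialLinearGroup.transvection_coe haz _
    rw [Units.val_mul, hval, Matrix.diagonal_mul, Matrix.add_apply, Matrix.single_apply]
    by_cases hjk : j = k
    · subst hjk
      rw [Matrix.one_apply_eq, if_neg (fun e => haz (e.1.trans e.2.symm))]
      simp [d]
    · rw [Matrix.one_apply_ne hjk]
      by_cases he : a = j ∧ z = k
      · obtain ⟨rfl, rfl⟩ := he
        rw [if_pos ⟨rfl, rfl⟩]
        simp [d, mul_div_cancel₀ _ (hne a)]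
      · rw [if_neg he]
        simp [hoff j k hjk fun e => he ⟨e.1.symm, e.2.symm⟩]
  have hT : ∀ i j : Fin n, i < j → ∀ t,
      conjAut (Matrix.SpecialLinearGroup.toGL T) (xr i j t) = xr i j t := by
    intro i j hij t
    have hia : z ≠ i := fun e => by
      subst e; have := j.2; have h' : n - 1 < (j : ℕ) := hij; omega
    have hja : j ≠ a := fun e => by subst e; exact absurd hij (by simp [ha, Fin.lt_def])
    rw [conjAut_toGL, MulAut.conj_apply, xr_eq_mk hij.ne, ← QuotientGroup.mk_mul,
      ← QuotientGroup.mk_inv, ← QuotientGroup.mk_mul]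
    congr 1
    rw [mul_inv_eq_iff_eq_mul]
    apply Subtype.ext
    rw [Matrix.SpecialLinearGroup.coe_mul, Matrix.SpecialLinearGroup.coe_mul]
    simp only [T, Matrix.SpecialLinearGroup.transvection_coe, add_mul, mul_add, one_mul, mul_one,
      Matrix.single_mul_single_of_ne _ a z i hia, Matrix.single_mul_single_of_ne _ i j a hja]
    abel
  have key : ∀ i j : Fin n, i < j → ∀ t, (d i : F) * τ t * ((d j)⁻¹ : Fˣ) = t := by
    intro i j hij t
    apply xr_injective hn hij.ne
    have h1 := h i j hij t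
    rw [MulAut.mul_apply, fieldAut_xr τ hij.ne, hg, map_mul, MulAut.mul_apply, hT i j hij,
      conjAut_diag_xr d hij.ne] at h1
    exact h1
  have hdd : ∀ j, d j = d a := by
    intro j
    by_cases hj : j = a
    · rw [hj]
    · have := key a j (lt_of_le_of_ne (Fin.le_iff_val_le_val.2 (by simp [ha])) (Ne.symm hj)) 1
      rw [map_one, mul_one, ← Units.val_mul] at this
      exact (mul_inv_eq_one.1 (Units.ext this)).symm
  have hτ : τ = 1 := by
    refine RingEquiv.ext fun t => ?_
    have haz' : a < z := lt_of_le_of_ne (Fin.le_iff_val_le_val.2 (by simp [ha])) haz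
    have := key a z haz' t
    rw [hdd z, mul_comm (d a : F) (τ t), mul_assoc, ← Units.val_mul, mul_inv_cancel, Units.val_one,
      mul_one] at this
    exact this
  subst hτ
  rw [map_one, mul_one] at hα ⊢
  have hD : conjAut g = MulAut.conj (QuotientGroup.mk T : PSLn) := by
    rw [hg, map_mul, conjAut_toGL, conjAut_eq_one_of_center
      (mem_center_GL_of_scalar (c := (d a : F)) ?_), one_mul]
    rw [smul_one_eq_diagonal]
    exact congrArg diagonal (funext fun k => by rw [hdd k])
  rw [hD] at hα ⊢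
  obtain ⟨P, hP⟩ := exists_sylow_upper (n := n) (F := F) p
  have hmem : (QuotientGroup.mk T : PSLn) ∈ (P : Subgroup PSLn) := by
    have haz' : a < z := lt_of_le_of_ne (Fin.le_iff_val_le_val.2 (by simp [ha])) haz
    have := hP a z haz' ((g : Mn) a z / (g : Mn) a a)
    rwa [xr_eq_mk haz] at this
  obtain ⟨k, hk⟩ := P.isPGroup' ⟨_, hmem⟩
  have hk' : MulAut.conj (QuotientGroup.mk T : PSLn) ^ p ^ k = 1 := by
    rw [← map_pow, show (QuotientGroup.mk T : PSLn) ^ p ^ k = 1 by
      simpa [Subtype.ext_iff] using hk, map_one]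
  obtain ⟨j, -, hj⟩ := (Nat.dvd_prime_pow (Fact.out : p.Prime)).1 (orderOf_dvd_of_pow_eq_one hk')
  rcases Nat.eq_zero_or_pos j with rfl | hj0
  · rwa [pow_zero, orderOf_eq_one_iff] at hj
  · exact absurd (hj ▸ dvd_pow_self p hj0.ne') hα

theorem rigid_PSL {G : Type*} [Group G] [Finite G] (hn : 2 ≤ n) (e : G ≃* PSLn) : Rigid p G := by
  intro α hα P hfix
  obtain ⟨P₀, hP₀⟩ := exists_sylow_upper (n := n) (F := F) p
  let Q : Sylow p PSLn := P.mapSurjective (f := e.toMonoidHom) e.surjective
  obtain ⟨g, hg⟩ := MulAction.exists_smul_eq PSLn P₀ Q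
  let c : G ≃* PSLn := e.trans (MulAut.conj g).symm
  have h1 : MulAut.congr c α = 1 := by
    refine eq_one_of_fix_upper p hn _ ?_ fun i j hij t => ?_
    · rwa [MulEquiv.orderOf_eq]
    · have hmem : g * xr i j t * g⁻¹ ∈ (Q : Subgroup PSLn) := by
        rw [← hg, Sylow.coe_subgroup_smul]
        exact ⟨_, hP₀ i j hij t, rfl⟩
      obtain ⟨x, hx, hxe⟩ := hmem
      have hc : c x = xr i j t := by
        show (MulAut.conj g).symm (e x) = _
        rw [show e x = g * xr i j t * g⁻¹ from hxe, MulEquiv.symm_apply_eq, MulAut.conj_apply]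
      show c (α (c.symm (xr i j t))) = xr i j t
      rw [← hc, MulEquiv.symm_apply_apply, hfix x hx]
  exact (MulAut.congr c).injective (h1.trans (map_one _).symm)

end Cfsg.Agent.Lib.LieChambers
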