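import Mathlib

/-!
Chamber systems of finite groups of Lie type in the abstract: a unipotent group `U`, panels, a rank
function with ascents, a free orbit. Transitivity of the group on chambers up to thin partners, and the
description of the free orbits.
-/

set_option autoImplicit false
set_option linter.unusedSectionVars false

namespace Cfsg.Agent.Lib.LieChambers

open MulAction

/-- A chamber system with base chamber `C` and opposite chamber `x₀`. -/
structure Sys (p : ℕ) (G X K : Type*) [Group G] [MulAction G X] where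
  /-- the radical of the base chamber -/
  U : Subgroup G
  /-- the base chamber -/
  C : X
  /-- an opposite chamber -/
  x₀ : X
  /-- chambers with the same stabiliser as the base chamber -/
  Bs : Set X
  /-- thin partners of the opposite chamber -/
  Z : Set X
  rank : X → ℕ
  panel : K → X → Set X
  self_mem : ∀ k x, x ∈ panel k x
  eq_of_mem : ∀ {k x y}, y ∈ panel k x → panel k y = panel k x
  smul_mem : ∀ (g : G) {k x y}, y ∈ panel k x → g • y ∈ panel k (g • x)
  exists_ne : ∀ k x, ∃ y ∈ panel k x, y ≠ x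
  U_fix : ∀ u ∈ U, u • C = C
  U_free : ∀ u ∈ U, u • x₀ = x₀ → u = 1
  U_ne : U ≠ ⊥
  rank_smul : ∀ u ∈ U, ∀ x, rank (u • x) = rank x
  asc : ∀ x, (∀ u ∈ U, u • x₀ ≠ x) → ∃ k, ∀ y ∈ panel k x, y ≠ x → rank x < rank y
  C_mem : C ∈ Bs
  Bs_stab : ∀ b ∈ Bs, stabilizer G b = stabilizer G C
  trans : ∀ b ∈ Bs, ∀ k, ∀ a ∈ panel k b, ∀ c ∈ panel k b, a ≠ b → c ≠ b → ∃ u ∈ U, u • a = c
  Bs_thin : ∀ b ∈ Bs, ∀ k, ∀ c ∈ panel k b, (∀ d ∈ panel k b, d = b ∨ d = c) → c ∈ Bs
  x₀_mem : ∃ g : G, ∃ b ∈ Bs, x₀ = g • b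
  x₀_Z : x₀ ∈ Z
  Z_stab : ∀ z ∈ Z, stabilizer G z = stabilizer G x₀
  Z_thin : ∀ z ∈ Z, ∀ u ∈ U, ∀ k, ∀ y ∈ panel k (u • z), y ≠ u • z →
    (∀ d ∈ panel k (u • z), d = u • z ∨ d = y) → ∃ v ∈ U, ∃ z' ∈ Z, y = v • z'
  Z_sep : ∀ k x y y', y ∈ panel k x → y' ∈ panel k x → y ≠ x → y' ≠ x → y ≠ y' →
    ∀ u ∈ U, ∀ v ∈ U, ∀ z ∈ Z, ∀ z' ∈ Z, y = u • z → y' = v • z' → z = z'
  p_group : IsPGroup p U
  pel : ∀ g : G, (∃ k, g ^ p ^ k = 1) → g • C = C → g ∈ U
  fixed : ∀ g : G, (∀ u ∈ U, u • g • C = g • C) → g • C = C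

variable {p : ℕ} {G X K : Type*} [Group G] [MulAction G X] [Finite X] (S : Sys p G X K)

namespace Sys

/-- The rank of a chamber never exceeds this bound. -/
theorem exists_bound : ∃ N, ∀ x, S.rank x < N := by
  classical
  haveI := Fintype.ofFinite X
  exact ⟨Finset.univ.sup S.rank + 1, fun x =>
    Nat.lt_succ_of_le (Finset.le_sup (Finset.mem_univ x))⟩

/-- Downward induction along ascents. -/
theorem rank_induction {motive : X → Prop}
    (hopp : ∀ u ∈ S.U, motive (u • S.x₀))
    (hasc : ∀ x k, (∀ u ∈ S.U, u • S.x₀ ≠ x) →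
      (∀ y ∈ S.panel k x, y ≠ x → S.rank x < S.rank y) →
      (∀ y, S.rank x < S.rank y → motive y) → motive x)
    (x : X) : motive x := by
  obtain ⟨N, hN⟩ := S.exists_bound
  suffices h : ∀ d x, N - S.rank x = d → motive x from h _ x rfl
  intro d
  induction d using Nat.strong_induction_on with
  | _ d ih =>
    intro x hx
    by_cases hop : ∀ u ∈ S.U, u • S.x₀ ≠ x
    · obtain ⟨k, hk⟩ := S.asc x hop
      refine hasc x k hop hk fun y hy => ih (N - S.rank y) ?_ y rfl
      have := hN y; omega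
    · push Not at hop
      obtain ⟨u, hu, rfl⟩ := hop
      exact hopp u hu

theorem smul_panel {g : G} {k : K} {x y : X} : g • y ∈ S.panel k (g • x) ↔ y ∈ S.panel k x := by
  refine ⟨fun h => ?_, S.smul_mem g⟩
  simpa using S.smul_mem g⁻¹ h

/-- Every chamber is a translate of a base chamber. -/
theorem exists_base (x : X) : ∃ g : G, ∃ b ∈ S.Bs, x = g • b := by
  induction x using S.rank_induction with
  | hopp u hu =>
    obtain ⟨g, b, hb, h⟩ := S.x₀_mem
    exact ⟨u * g, b, hb, by rw [h, mul_smul]⟩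
  | hasc x k hop hk ih =>
    classical
    obtain ⟨y, hy, hyx⟩ := S.exists_ne k x
    obtain ⟨g, b, hb, hyb⟩ := ih y (hk y hy hyx)
    have hx : g⁻¹ • x ∈ S.panel k b := by
      have h1 : x ∈ S.panel k y := by rw [S.eq_of_mem hy]; exact S.self_mem k x
      have := S.smul_mem g⁻¹ h1
      rwa [hyb, inv_smul_smul] at this
    have hxb : g⁻¹ • x ≠ b := fun h => hyx (by rw [hyb, ← h, smul_inv_smul])
    by_cases hthin : ∀ d ∈ S.panel k b, d = b ∨ d = g⁻¹ • x
    · exact ⟨g, g⁻¹ • x, S.Bs_thin b hb k _ hx hthin, (smul_inv_smul g x).symm⟩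
    · push Not at hthin
      obtain ⟨d, hd, hdb, hdx⟩ := hthin
      have hy' : g • d ∈ S.panel k x := by
        have := S.smul_mem g hd
        rw [← hyb, S.eq_of_mem hy] at this
        exact this
      obtain ⟨g', b', hb', h'⟩ := ih _ (hk _ hy' fun h => hdx (by rw [← h, inv_smul_smul]))
      obtain ⟨u, -, hu⟩ := S.trans b hb k d hd _ hx hdb hxb
      refine ⟨g * u * g⁻¹ * g', b', hb', ?_⟩
      rw [mul_smul, ← h', mul_smul, inv_smul_smul, mul_smul, hu, smul_inv_smul]

/-- Every stabiliser is the stabiliser of a translate of the base chamber. -/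
theorem exists_stab (x : X) : ∃ g : G, stabilizer G x = stabilizer G (g • S.C) := by
  obtain ⟨g, b, hb, rfl⟩ := S.exists_base x
  exact ⟨g, by rw [stabilizer_smul_eq_stabilizer_map_conj, stabilizer_smul_eq_stabilizer_map_conj,
    S.Bs_stab b hb]⟩

/-- An element fixing `C` normalises `U`. -/
theorem conj_mem {g u : G} (hg : g • S.C = S.C) (hu : u ∈ S.U) : g * u * g⁻¹ ∈ S.U := by
  refine S.pel _ ?_ ?_
  · obtain ⟨k, hk⟩ := S.p_group ⟨u, hu⟩
    exact ⟨k, by rw [conj_pow, show u ^ p ^ k = 1 from by simpa [Subtype.ext_iff] using hk]; simp⟩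
  · have hg' : g⁻¹ • S.C = S.C := inv_smul_eq_iff.2 hg.symm
    rw [mul_smul, mul_smul, hg', S.U_fix u hu, hg]

theorem normalizer_U : Subgroup.normalizer (S.U : Set G) = stabilizer G S.C := by
  ext g
  constructor
  · intro hg
    refine S.fixed g fun u hu => ?_
    have : g⁻¹ * u * g ∈ S.U := by
      have := (Subgroup.mem_normalizer_iff''.1 hg u).1 hu
      simpa using this
    rw [← mul_smul, show u * g = g * (g⁻¹ * u * g) by group, mul_smul, S.U_fix _ this]
  · intro hg
    refine Subgroup.mem_normalizer_iff.2 fun u => ⟨fun hu => S.conj_mem hg hu, fun hu => ?_⟩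
    have := S.conj_mem (inv_smul_eq_iff.2 (mem_stabilizer_iff.1 hg).symm) hu
    simpa [mul_assoc] using this

theorem U_le_stab : S.U ≤ stabilizer G S.C := fun u hu => S.U_fix u hu

/-- The stabiliser of `C` is its own normaliser. -/
theorem fix_of_stab_eq {g : G} (h : stabilizer G (g • S.C) = stabilizer G S.C) : g • S.C = S.C :=
  S.fixed g fun u hu => mem_stabilizer_iff.1 (h ▸ S.U_le_stab hu)

/-- A conjugate of `C` with equal stabiliser is `C`. -/
theorem smul_eq_of_stab_eq {g h : G} (e : stabilizer G (g • S.C) = stabilizer G (h • S.C)) :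
    g • S.C = h • S.C := by
  have : stabilizer G ((h⁻¹ * g) • S.C) = stabilizer G S.C := by
    rw [mul_smul, stabilizer_smul_eq_stabilizer_map_conj h⁻¹, e, ← stabilizer_smul_eq_stabilizer_map_conj h⁻¹, inv_smul_smul]
  have h2 := S.fix_of_stab_eq this
  rw [mul_smul, inv_smul_eq_iff] at h2
  exact h2

/-- Two chambers forming a panel have the same stabiliser. -/
theorem stab_thin {k : K} {x y : X} (hy : y ∈ S.panel k x) (hyx : y ≠ x)
    (h : ∀ d ∈ S.panel k x, d = x ∨ d = y) : stabilizer G x = stabilizer G y := by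
  have hcard : ∀ {a b : X}, a ∈ S.panel k x → b ∈ S.panel k x → a ≠ b →
      (∀ d ∈ S.panel k x, d = a ∨ d = b) → stabilizer G a ≤ stabilizer G b := by
    intro a b ha hb hab hd g hg
    have h1 := S.smul_mem g (show b ∈ S.panel k a by rw [S.eq_of_mem ha]; exact hb)
    rw [mem_stabilizer_iff.1 hg, S.eq_of_mem ha] at h1
    refine mem_stabilizer_iff.2 ((hd _ h1).resolve_left fun e => hab ?_)
    exact (MulAction.injective g ((mem_stabilizer_iff.1 hg).trans e.symm))
  exact le_antisymm (hcard (S.self_mem k x) hy hyx.symm h)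
    (hcard hy (S.self_mem k x) hyx fun d hd => (h d hd).symm)

/-- A free orbit of `U` is the orbit of a partner of the opposite chamber. -/
theorem free (x : X) (hx : ∀ u ∈ S.U, u • x = x → u = 1) :
    ∃ u ∈ S.U, ∃ z ∈ S.Z, x = u • z := by
  induction x using S.rank_induction with
  | hopp u hu => exact ⟨u, hu, S.x₀, S.x₀_Z, rfl⟩
  | hasc x k hop hk ih =>
    classical
    have hlow : ∀ {u : G}, u ∈ S.U → ∀ {y}, y ∈ S.panel k x → u • y ∈ S.panel k x → u • x = x := by
      intro u hu y hy hy'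
      by_contra hne
      have h1 : u • x ∈ S.panel k x := by
        have h2 := S.smul_mem u (show x ∈ S.panel k y by rw [S.eq_of_mem hy]; exact S.self_mem k x)
        rwa [S.eq_of_mem hy'] at h2
      have := hk _ h1 hne
      rw [S.rank_smul u hu] at this
      omega
    have hfree : ∀ y ∈ S.panel k x, y ≠ x → ∀ u ∈ S.U, u • y = y → u = 1 := fun y hy _ u hu h =>
      hx u hu (hlow hu hy (by rw [h]; exact hy))
    obtain ⟨y, hy, hyx⟩ := S.exists_ne k x
    obtain ⟨u, hu, z, hz, rfl⟩ := ih y (hk y hy hyx) (hfree y hy hyx)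
    by_cases hthin : ∀ d ∈ S.panel k x, d = x ∨ d = u • z
    · refine S.Z_thin z hz u hu k x ?_ hyx.symm fun d hd => ?_
      · rw [S.eq_of_mem hy]; exact S.self_mem k x
      · rw [S.eq_of_mem hy] at hd; exact (hthin d hd).symm
    · push Not at hthin
      obtain ⟨y', hy', hy'x, hne⟩ := hthin
      obtain ⟨v, hv, z', hz', rfl⟩ := ih y' (hk y' hy' hy'x) (hfree y' hy' hy'x)
      obtain rfl := S.Z_sep k x _ _ hy hy' hyx hy'x hne.symm u hu v hv z hz z' hz' rfl rfl
      exfalso
      have hvu : v * u⁻¹ ∈ S.U := mul_mem hv (inv_mem hu)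
      have h1 : (v * u⁻¹) • (u • z) = v • z := by rw [← mul_smul, inv_mul_cancel_right]
      have h2 := hx _ hvu (hlow hvu hy (by rw [h1]; exact hy'))
      exact hne (by rw [← h1, h2, one_smul])

end Sys

end Cfsg.Agent.Lib.LieChambers
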