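import Cfsg.Agent.Lib.LieChambers.Panels
import Cfsg.Agent.Lib.LieChambers.System
import Cfsg.Agent.Lib.SteinbergChar.Main

/-!
The chamber systems of the classical groups attached to frames.
-/

set_option autoImplicit false
set_option linter.unusedSectionVars false
set_option linter.style.haveILetI false

namespace Cfsg.Agent.Lib.LieChambers

open Module MulAction
open Cfsg.Agent.Lib.Forms
open Cfsg.Agent.Lib.SteinbergChar
open Cfsg.Agent.Lib.SteinbergChar.Frame (partner idx)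

variable {F V : Type*} [Field F] [Finite F] [AddCommGroup V] [Module F V] [FiniteDimensional F V]
  {σ : F →+* F} {P : FormPair σ V} {m : ℕ} (Fr : Frame P m)

theorem rank_smul {u : P.isom} (hu : u ∈ Fr.U) (D : Ch P m) : Fr.rank (u • D) = Fr.rank D := by
  unfold Frame.rank
  refine Finset.sum_congr rfl fun i _ => Finset.sum_congr rfl fun j _ => ?_
  congr 1
  have hLv : (Fr.Lv j).map (u : V ≃ₗ[F] V).toLinearMap = Fr.Lv j := by
    refine Submodule.eq_of_le_of_finrank_eq ?_ (LinearEquiv.finrank_map_eq _ _)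
    rintro _ ⟨x, hx, rfl⟩
    exact Frame.iter_step Fr hu hx
  conv_lhs => rw [Ch.smul_sp, ← hLv, ← Submodule.map_inf _ (u : V ≃ₗ[F] V).injective]
  exact LinearEquiv.finrank_map_eq _ _

theorem asc_panel {D : Ch P m} (hD : ∀ u ∈ Fr.U, u • Fr.X0 ≠ D) :
    ∃ k : Fin m, ∀ Y ∈ (panel D ((k : ℕ) + 1) : Set (Ch P m)), Y ≠ D →
      Fr.rank D < Fr.rank Y := by
  obtain ⟨ℓ, ⟨D', k, hk1, hk2, rfl⟩, hDℓ, hlt⟩ := Fr.exists_ascent fun hop => by
    obtain ⟨g, hg, hgx⟩ := Fr.U_trans hop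
    exact hD g hg hgx
  refine ⟨⟨k - 1, by omega⟩, fun Y hY hne => hlt Y ?_ hne⟩
  rw [show ((⟨k - 1, by omega⟩ : Fin m) : ℕ) + 1 = k by simp; omega, panel_eq_of_mem hDℓ] at hY
  exact hY

include Fr in
theorem exists_other (D : Ch P m) (k : Fin m) :
    ∃ Y ∈ (panel D ((k : ℕ) + 1) : Set (Ch P m)), Y ≠ D := by
  obtain ⟨g, rfl⟩ := exists_smul_C0 Fr D
  exact ⟨g • Q Fr k, smul_mem_panel g (Q_mem Fr k),
    fun h => Q_ne Fr k (MulAction.injective g h)⟩

/-- The panel of type `k` is thick. -/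
def Thick (k : Fin m) : Prop :=
  (k : ℕ) + 1 < m ∨ ∃ (w₀ : V) (c₀ : F), Fr.IsW w₀ ∧ (w₀ ≠ 0 ∨ c₀ ≠ 0) ∧
      P.N (Fr.f k + w₀ + c₀ • Fr.e k) = 0

theorem exists_third {k : Fin m} (h : Thick Fr k) (D : Ch P m) :
    ∃ a ∈ (panel D ((k : ℕ) + 1) : Set (Ch P m)), ∃ b ∈ (panel D ((k : ℕ) + 1) : Set (Ch P m)),
      a ≠ D ∧ b ≠ D ∧ a ≠ b := by
  obtain ⟨g, rfl⟩ := exists_smul_C0 Fr D
  suffices h' : ∃ u ∈ Fr.U, u • Q Fr k ≠ Q Fr k by
    obtain ⟨u, hu, hne⟩ := h'
    have hmem : u • Q Fr k ∈ panel Fr.C0 ((k : ℕ) + 1) := by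
      have := smul_mem_panel u (Q_mem Fr k)
      rwa [Fr.U_fix hu] at this
    exact ⟨g • Q Fr k, smul_mem_panel g (Q_mem Fr k), g • u • Q Fr k, smul_mem_panel g hmem,
      fun h => Q_ne Fr k (MulAction.injective g h),
      fun h => Q_ne Fr k (MulAction.injective u
        ((MulAction.injective g h).trans (Fr.U_fix hu).symm)),
      fun h => hne (MulAction.injective g h).symm⟩
  have hfix : ∀ {u : P.isom} {x : V}, u • Q Fr k = Q Fr k → x ∈ (Q Fr k).sp ((k : ℕ) + 1) →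
      (u : V ≃ₗ[F] V) x - x ∈ (Q Fr k).sp ((k : ℕ) + 1) := by
    intro u x e hx
    refine sub_mem ?_ hx
    have h1 := Submodule.mem_map_of_mem (f := (u : V ≃ₗ[F] V).toLinearMap) hx
    rwa [← Ch.smul_sp, e] at h1
  by_cases hk : (k : ℕ) + 1 < m
  · obtain ⟨u, hu, hux⟩ := exists_root_t Fr (i := k) (i' := ⟨k + 1, hk⟩) (Nat.lt_succ_self (k : ℕ)) 1
    refine ⟨u, hu, fun e => Q_ne Fr k ?_⟩
    have hx := mem_Q Fr k
    rw [dif_pos hk] at hx
    have h1 := hfix e hx
    rw [hux] at h1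
    simp [Frame.a_e, Frame.b_e] at h1
    refine eq_of_mem_sp (Q_mem Fr k) (self_mem_panel _ _) h1 ?_ ?_
    · rw [Frame.C0_sp]; exact Fr.e_mem_C (Nat.lt_succ_self _)
    · rw [Frame.C0_sp, Frame.mem_C_iff]
      rintro ⟨-, -, h3⟩
      simpa [Frame.a_e] using h3 k le_rfl
  · obtain ⟨w₀, c₀, hw, hne, hN⟩ := h.resolve_left hk
    have hkm : (k : ℕ) + 1 = m := by omega
    obtain ⟨u, hu, hux⟩ := Fr.exists_root_last k hkm hw hN
    refine ⟨u, hu, fun e => ?_⟩
    have hx := mem_Q Fr k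
    rw [dif_neg hk] at hx
    have h1 := hfix e hx
    rw [hux] at h1
    simp [Frame.b_f, Frame.pr_f] at h1
    have hts := (Q Fr k).ts_at ((k : ℕ) + 1)
    have hc : c₀ = 0 := by
      have h2 := (hts _ hx).2 _ h1
      simp [(hw k).2, Fr.rel.Bfe, Fr.eps_ne k] at h2
      exact h2
    refine hne.elim (fun h4 => h4 (Fr.aniso' hw ?_)) (fun h4 => h4 hc)
    have h2 := (hts _ h1).1
    simpa [hc] using h2

theorem no_thin {k : Fin m} (h : Thick Fr k) {D c : Ch P m}
    (hd : ∀ d ∈ (panel D ((k : ℕ) + 1) : Set (Ch P m)), d = D ∨ d = c) : False := by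
  obtain ⟨a, ha, b, hb, haD, hbD, hab⟩ := exists_third Fr h D
  exact hab (((hd a ha).resolve_left haD).trans ((hd b hb).resolve_left hbD).symm)

theorem stab_partner {D E : Ch P m} {k : ℕ} (hE : E ∈ panel D k) (hne : E ≠ D)
    (hd : ∀ d ∈ panel D k, d = D ∨ d = E) : stabilizer P.isom D = stabilizer P.isom E := by
  have key : ∀ {a b : Ch P m}, a ∈ panel D k → b ∈ panel D k → b ≠ a →
      (∀ d ∈ panel D k, d = a ∨ d = b) → stabilizer P.isom a ≤ stabilizer P.isom b := by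
    intro a b ha hb hba hd g hg
    rw [← panel_eq_of_mem ha] at hb hd
    have h1 := smul_mem_panel g hb
    rw [mem_stabilizer_iff.1 hg] at h1
    exact (hd _ h1).resolve_left fun e => hba
      (MulAction.injective g (e.trans (mem_stabilizer_iff.1 hg).symm))
  exact le_antisymm (key (self_mem_panel D k) hE hne hd)
    (key hE (self_mem_panel D k) hne.symm fun d h => (hd d h).symm)

theorem U_ne (hk : ∃ k : Fin m, Thick Fr k) : Fr.U ≠ ⊥ := by
  obtain ⟨k, hk⟩ := hk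
  intro hbot
  obtain ⟨a, ha, b, hb, haD, hbD, hab⟩ := exists_third Fr hk Fr.C0
  obtain ⟨u, hu, rfl⟩ := panel_orbit Fr ha haD
  obtain ⟨v, hv, rfl⟩ := panel_orbit Fr hb hbD
  rw [hbot, Subgroup.mem_bot] at hu hv
  exact hab (by rw [hu, hv])

theorem sub_stab {H : Subgroup P.isom} {x y : Ch P m}
    (e : stabilizer P.isom x = stabilizer P.isom y) : stabilizer H x = stabilizer H y := by
  ext g
  exact SetLike.ext_iff.1 e (g : P.isom)

variable (p : ℕ) [Fact p.Prime] [CharP F p] (H : Subgroup P.isom) (hUH : Fr.U ≤ H)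

theorem pel_of (hmid : ∀ g ∈ H, (∃ k, orderOf g = p ^ k) → g • Fr.C0 = Fr.C0 →
      ∀ w, Fr.IsW w → Fr.pr ((g : V ≃ₗ[F] V) w) = w)
    (g : H) (hg : ∃ k, g ^ p ^ k = 1) (hC : g • Fr.C0 = Fr.C0) : g ∈ Fr.U.subgroupOf H := by
  obtain ⟨k, hk⟩ := hg
  obtain ⟨j, -, hj⟩ := (Nat.dvd_prime_pow (Fact.out : p.Prime)).1 (orderOf_dvd_of_pow_eq_one hk)
  have hord : ∃ k, orderOf (g : P.isom) = p ^ k := ⟨j, by rw [Subgroup.orderOf_coe, hj]⟩
  exact Fr.mem_U_of_fix p hord hC (hmid g g.2 hord hC)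

include hUH in
theorem trans_C0 (k : Fin m) {a c : Ch P m} (ha : a ∈ (panel Fr.C0 ((k : ℕ) + 1) : Set (Ch P m)))
    (hc : c ∈ (panel Fr.C0 ((k : ℕ) + 1) : Set (Ch P m))) (hab : a ≠ Fr.C0) (hcb : c ≠ Fr.C0) :
    ∃ u ∈ Fr.U.subgroupOf H, u • a = c := by
  obtain ⟨u, hu, rfl⟩ := panel_orbit Fr ha hab
  obtain ⟨v, hv, rfl⟩ := panel_orbit Fr hc hcb
  have hvu : v * u⁻¹ ∈ Fr.U := mul_mem hv (inv_mem hu)
  refine ⟨⟨v * u⁻¹, hUH hvu⟩, hvu, ?_⟩
  show (v * u⁻¹) • u • Q Fr k = _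
  rw [← mul_smul, inv_mul_cancel_right]

include hUH in
/-- The thick case. -/
theorem nonempty_sys_thick (hm : 1 ≤ m)
    (hmid : ∀ g ∈ H, (∃ k, orderOf g = p ^ k) → g • Fr.C0 = Fr.C0 →
      ∀ w, Fr.IsW w → Fr.pr ((g : V ≃ₗ[F] V) w) = w)
    (hlast : ∀ l : Fin m, (l : ℕ) + 1 = m → ∃ (w₀ : V) (c₀ : F), Fr.IsW w₀ ∧ (w₀ ≠ 0 ∨ c₀ ≠ 0) ∧
      P.N (Fr.f l + w₀ + c₀ • Fr.e l) = 0)
    (hopp : ∃ h ∈ H, h • Fr.C0 = Fr.X0) :
    ∃ S : Sys p H (Ch P m) (Fin m), S.C = Fr.C0 ∧ S.Bs = {Fr.C0} ∧ S.U = Fr.U.subgroupOf H ∧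
      S.rank = Fr.rank ∧
      S.panel = fun (k : Fin m) (D : Ch P m) => (panel D ((k : ℕ) + 1) : Set (Ch P m)) := by
  have hthick : ∀ k : Fin m, Thick Fr k := fun k => by
    by_cases h : (k : ℕ) + 1 < m
    · exact Or.inl h
    · exact Or.inr (hlast k (by omega))
  refine ⟨{
    U := Fr.U.subgroupOf H
    C := Fr.C0
    x₀ := Fr.X0
    Bs := {Fr.C0}
    Z := {Fr.X0}
    rank := Fr.rank
    panel := fun k D => (panel D ((k : ℕ) + 1) : Set (Ch P m))
    self_mem := fun k x => self_mem_panel x _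
    eq_of_mem := fun h => congrArg _ (panel_eq_of_mem h)
    smul_mem := fun g k x y h => smul_mem_panel (g : P.isom) h
    exists_ne := fun k x => exists_other Fr x k
    U_fix := fun u hu => Fr.U_fix (g := (u : P.isom)) hu
    U_free := fun u hu h => Subtype.ext (Fr.U_free (g := (u : P.isom)) hu h)
    U_ne := fun h => U_ne Fr ⟨⟨0, hm⟩, hthick _⟩ (eq_bot_iff.2 fun u hu => by
      have : (⟨u, hUH hu⟩ : H) ∈ Fr.U.subgroupOf H := hu
      rw [h, Subgroup.mem_bot] at this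
      exact Subgroup.mem_bot.2 (congrArg Subtype.val this))
    rank_smul := fun u hu D => rank_smul Fr (u := (u : P.isom)) hu D
    asc := fun x hx => asc_panel Fr fun u hu => hx ⟨u, hUH hu⟩ hu
    C_mem := rfl
    Bs_stab := fun b hb => by rw [Set.mem_singleton_iff.1 hb]
    trans := fun b hb k a ha c hc hab hcb => by
      obtain rfl := Set.mem_singleton_iff.1 hb
      exact trans_C0 Fr H hUH k ha hc hab hcb
    Bs_thin := fun b _ k c _ hd => (no_thin Fr (hthick k) hd).elim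
    x₀_mem := by
      obtain ⟨h, hh, hhx⟩ := hopp
      exact ⟨⟨h, hh⟩, Fr.C0, rfl, hhx.symm⟩
    x₀_Z := rfl
    Z_stab := fun z hz => by rw [Set.mem_singleton_iff.1 hz]
    Z_thin := fun z _ u _ k y _ _ hd => (no_thin Fr (hthick k) hd).elim
    Z_sep := fun k x y y' _ _ _ _ _ u _ v _ z hz z' hz' _ _ => by
      rw [Set.mem_singleton_iff.1 hz, Set.mem_singleton_iff.1 hz']
    p_group := (Fr.isPGroup_U p).comap_of_injective H.subtype Subtype.val_injective
    pel := pel_of Fr p H hmid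
    fixed := fun g hfix => ?_ }, rfl, rfl, rfl, rfl, rfl⟩
  obtain ⟨w₀, c₀, hw, hne, hN⟩ := hlast ⟨m - 1, by omega⟩ (by simp; omega)
  exact Fr.fixed_eq (D := (g : P.isom) • Fr.C0) (fun u hu => hfix ⟨u, hUH hu⟩ hu)
    (l := ⟨m - 1, by omega⟩) (by simp; omega) hw hne hN

/-- The frame of the thin partner of the base chamber. -/
noncomputable def swapFrame (l : Fin m) : Frame P m where
  e := Function.update Fr.e l (Fr.f l)
  f := Function.update Fr.f l (P.ε⁻¹ • Fr.e l)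
  rel := by
    refine ⟨fun j => ?_, fun j => ?_, fun j k => ?_, fun j k => ?_, fun j k => ?_⟩
    · rcases eq_or_ne j l with rfl | hj
      · rw [Function.update_self, Fr.rel.Nf]
      · rw [Function.update_of_ne hj, Fr.rel.Ne]
    · rcases eq_or_ne j l with rfl | hj
      · rw [Function.update_self, P.N_smul, Fr.rel.Ne, mul_zero]
      · rw [Function.update_of_ne hj, Fr.rel.Nf]
    · simp only [Function.update_apply]
      split_ifs with h1 h2 h2 <;>
        simp_all [Fr.rel.Bee, Fr.rel.Bff, Fr.rel.Bef, Fr.rel.Bfe, eq_comm]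
    · simp only [Function.update_apply]
      split_ifs with h1 h2 h2 <;>
        simp_all [Fr.rel.Bee, Fr.rel.Bff, Fr.rel.Bef, Fr.rel.Bfe, P.B_smul_left, eq_comm]
    · have hε := Fr.eps_ne l
      simp only [Function.update_apply]
      split_ifs with h1 h2 h2 <;>
        simp_all [Fr.rel.Bee, Fr.rel.Bff, Fr.rel.Bef, Fr.rel.Bfe, eq_comm]
  aniso := fun w he hf hN => by
    refine Fr.aniso w (fun j => ?_) (fun j => ?_) hN
    · rcases eq_or_ne j l with rfl | hj
      · have := hf j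
        rw [Function.update_self, P.B_smul_left] at this
        refine (mul_eq_zero.1 this).resolve_left fun h0 => Fr.eps_ne j ?_
        have := map_eq_zero_iff σ σ.injective |>.1 h0
        exact inv_eq_zero.1 this
      · simpa [Function.update_of_ne hj] using he j
    · rcases eq_or_ne j l with rfl | hj
      · simpa using he j
      · simpa [Function.update_of_ne hj] using hf j

theorem swapFrame_C0 (l : Fin m) : (swapFrame Fr l).C0 = Fr.P0 l := by
  refine Ch.ext' fun i _ => ?_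
  rw [Frame.ch_sp, Frame.ch_sp, Frame.idxSet, Frame.idxSet, Set.image_image, Set.image_image]
  congr 1
  refine Set.image_congr fun j _ => ?_
  rcases eq_or_ne j l with rfl | hj
  · simp [Frame.gen, idx, swapFrame]
  · simp [Frame.gen, idx, swapFrame, Function.update_of_ne hj]

theorem Q_last (l : Fin m) (hl : (l : ℕ) + 1 = m) : Q Fr l = Fr.P0 l := by
  simp [Q, partner, show ¬ ((l : ℕ) + 1 < m) by omega]

include hUH in
/-- The case of thin panels of the last type. -/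
theorem nonempty_sys_thin (hm : 2 ≤ m) (l : Fin m) (hl : (l : ℕ) + 1 = m)
    (hW : ∀ w, Fr.IsW w → w = 0) (hρ : ∀ r, P.ρ r = 0 → r = 0)
    (hparity : ∀ h ∈ H, h • Fr.C0 ≠ Fr.P0 l)
    (hopp : ∃ h ∈ H, h • Fr.C0 = Fr.X0 ∨ h • Fr.C0 = Fr.X1 l) :
    ∃ S : Sys p H (Ch P m) (Fin m), S.C = Fr.C0 ∧ S.Bs = {Fr.C0, Fr.P0 l} ∧
      S.U = Fr.U.subgroupOf H ∧ S.rank = Fr.rank ∧
      S.panel = fun (k : Fin m) (D : Ch P m) => (panel D ((k : ℕ) + 1) : Set (Ch P m)) := by
  classical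
  have hthick : ∀ k : Fin m, k ≠ l → Thick Fr k := fun k hk => Or.inl (by
    rcases lt_or_ge ((k : ℕ) + 1) m with h | h
    · exact h
    · exact absurd (Fin.ext (by omega)) hk)
  have hC0 : ∀ Y ∈ panel Fr.C0 ((l : ℕ) + 1), Y = Fr.C0 ∨ Y = Fr.P0 l := fun Y hY =>
    Fr.thin_panel hl hW hρ fun k hk => by
      rw [mem_panel.1 hY k hk.le (by omega), Frame.C0_sp]
  have hP0mem : Fr.P0 l ∈ panel Fr.C0 ((l : ℕ) + 1) := Q_last Fr l hl ▸ Q_mem Fr l
  have hP0ne : Fr.P0 l ≠ Fr.C0 := Q_last Fr l hl ▸ Q_ne Fr l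
  obtain ⟨g, hg⟩ := Fr.exists_swap
  have hgC : g • Fr.C0 = Fr.X0 := hg _
  have hgP : g • Fr.P0 l = Fr.X1 l := by
    rw [hg]
    congr 2
    funext i
    rcases eq_or_ne i l with rfl | hi
    · simp
    · simp [Function.update_of_ne hi]
  have hX1mem : Fr.X1 l ∈ panel Fr.X0 ((l : ℕ) + 1) := by
    rw [← hgC, ← hgP]; exact smul_mem_panel g hP0mem
  have hX1ne : Fr.X1 l ≠ Fr.X0 := by
    rw [← hgC, ← hgP]; exact fun h => hP0ne (MulAction.injective g h)
  have hX0 : ∀ Y ∈ panel Fr.X0 ((l : ℕ) + 1), Y = Fr.X0 ∨ Y = Fr.X1 l := fun Y hY => by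
    have h1 := smul_mem_panel g⁻¹ hY
    rw [← hgC, inv_smul_smul] at h1
    rcases hC0 _ h1 with h | h
    · left; rw [← hgC, ← h, smul_inv_smul]
    · right; rw [← hgP, ← h, smul_inv_smul]
  have hsP : stabilizer P.isom Fr.C0 = stabilizer P.isom (Fr.P0 l) :=
    stab_partner hP0mem hP0ne hC0
  have hsX : stabilizer P.isom Fr.X0 = stabilizer P.isom (Fr.X1 l) :=
    stab_partner hX1mem hX1ne hX0
  have hW' : ∀ w, (swapFrame Fr l).IsW w → w = 0 := by
    intro w hw
    refine hW w fun j => ?_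
    rcases eq_or_ne j l with rfl | hj
    · refine ⟨?_, by simpa [swapFrame] using (hw j).1⟩
      have := (hw j).2
      simp only [swapFrame, Function.update_self, P.B_smul_left] at this
      refine (mul_eq_zero.1 this).resolve_left fun h0 => Fr.eps_ne j ?_
      exact inv_eq_zero.1 (map_eq_zero_iff σ σ.injective |>.1 h0)
    · simpa [swapFrame, Function.update_of_ne hj] using hw j
  have hU : ∀ u ∈ (swapFrame Fr l).U, u ∈ Fr.U := fun u hu => by
    obtain ⟨k, hk⟩ := (swapFrame Fr l).isPGroup_U p ⟨u, hu⟩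
    obtain ⟨j, -, hj⟩ := (Nat.dvd_prime_pow (Fact.out : p.Prime)).1 (orderOf_dvd_of_pow_eq_one hk)
    refine Fr.mem_U_of_fix p ⟨j, by rw [← hj]; exact (Subgroup.orderOf_coe (⟨u, hu⟩ : (swapFrame Fr l).U))⟩ ?_
      fun w hw => by rw [hW w hw, map_zero, map_zero]
    have h1 : u ∈ stabilizer P.isom (Fr.P0 l) := by
      rw [mem_stabilizer_iff, ← swapFrame_C0 Fr l]
      exact (swapFrame Fr l).U_fix hu
    rw [← hsP] at h1
    exact h1
  have hpart : ∀ z ∈ ({Fr.X0, Fr.X1 l} : Set (Ch P m)), ∀ y ∈ panel z ((l : ℕ) + 1),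
      y ∈ ({Fr.X0, Fr.X1 l} : Set (Ch P m)) := by
    intro z hz y hy
    rcases hz with rfl | rfl
    · exact hX0 y hy
    · rw [panel_eq_of_mem hX1mem] at hy; exact hX0 y hy
  refine ⟨{
    U := Fr.U.subgroupOf H
    C := Fr.C0
    x₀ := Fr.X0
    Bs := {Fr.C0, Fr.P0 l}
    Z := {Fr.X0, Fr.X1 l}
    rank := Fr.rank
    panel := fun k D => (panel D ((k : ℕ) + 1) : Set (Ch P m))
    self_mem := fun k x => self_mem_panel x _
    eq_of_mem := fun h => congrArg _ (panel_eq_of_mem h)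
    smul_mem := fun g k x y h => smul_mem_panel (g : P.isom) h
    exists_ne := fun k x => exists_other Fr x k
    U_fix := fun u hu => Fr.U_fix (g := (u : P.isom)) hu
    U_free := fun u hu h => Subtype.ext (Fr.U_free (g := (u : P.isom)) hu h)
    U_ne := fun h => U_ne Fr ⟨⟨0, by omega⟩, hthick _ fun e => by
        have := congrArg Fin.val e; simp at this; omega⟩ (eq_bot_iff.2 fun u hu => by
      have : (⟨u, hUH hu⟩ : H) ∈ Fr.U.subgroupOf H := hu
      rw [h, Subgroup.mem_bot] at this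
      exact Subgroup.mem_bot.2 (congrArg Subtype.val this))
    rank_smul := fun u hu D => rank_smul Fr (u := (u : P.isom)) hu D
    asc := fun x hx => asc_panel Fr fun u hu => hx ⟨u, hUH hu⟩ hu
    C_mem := Or.inl rfl
    Bs_stab := fun b hb => by
      rcases hb with rfl | rfl
      · rfl
      · exact sub_stab hsP.symm
    trans := ?_
    Bs_thin := ?_
    x₀_mem := ?_
    x₀_Z := Or.inl rfl
    Z_stab := fun z hz => by
      rcases hz with rfl | rfl
      · rfl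
      · exact sub_stab hsX.symm
    Z_thin := ?_
    Z_sep := ?_
    p_group := (Fr.isPGroup_U p).comap_of_injective H.subtype Subtype.val_injective
    pel := pel_of Fr p H fun g _ _ _ w hw => by rw [hW w hw, map_zero, map_zero]
    fixed := fun g hfix => (Fr.thin_panel (D := (g : P.isom) • Fr.C0) hl hW hρ
      (Fr.fixed_sp fun u hu => hfix ⟨u, hUH hu⟩ hu)).resolve_right (hparity g g.2) }, rfl, rfl, rfl, rfl, rfl⟩
  · rintro b (rfl | rfl) k a ha c hc hab hcb
    · exact trans_C0 Fr H hUH k ha hc hab hcb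
    · rw [← swapFrame_C0 Fr l] at ha hc hab hcb
      obtain ⟨u, hu, rfl⟩ := panel_orbit (swapFrame Fr l) ha hab
      obtain ⟨v, hv, rfl⟩ := panel_orbit (swapFrame Fr l) hc hcb
      have hvu : v * u⁻¹ ∈ Fr.U := mul_mem (hU v hv) (inv_mem (hU u hu))
      refine ⟨⟨v * u⁻¹, hUH hvu⟩, hvu, ?_⟩
      show (v * u⁻¹) • u • Q (swapFrame Fr l) k = _
      rw [← mul_smul, inv_mul_cancel_right]
  · intro b hb k c hc hd
    obtain rfl : k = l := by
      by_contra hk
      exact no_thin Fr (hthick k hk) hd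
    rcases hb with rfl | rfl
    · exact hC0 c hc
    · rw [panel_eq_of_mem hP0mem] at hc; exact hC0 c hc
  · obtain ⟨h, hh, hhx | hhx⟩ := hopp
    · exact ⟨⟨h, hh⟩, Fr.C0, Or.inl rfl, hhx.symm⟩
    · refine ⟨⟨h, hh⟩, Fr.P0 l, Or.inr rfl, ?_⟩
      have h1 := smul_mem_panel h hP0mem
      rw [hhx, panel_eq_of_mem hX1mem] at h1
      exact ((hX0 _ h1).resolve_right fun e =>
        hP0ne (MulAction.injective h (e.trans hhx.symm))).symm
  · intro z hz u hu k y hy _ hd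
    obtain rfl : k = l := by
      by_contra hk
      exact no_thin Fr (hthick k hk) hd
    refine ⟨u, hu, u⁻¹ • y, hpart z hz _ ?_, (smul_inv_smul u y).symm⟩
    have h1 := smul_mem_panel ((u : P.isom)⁻¹) hy
    rwa [show (u : P.isom)⁻¹ • u • z = z from inv_smul_smul (u : P.isom) z] at h1
  · intro k x y y' hy hy' hyx hy'x hne u hu v hv z hz z' hz' e e'
    have hlast : k ≠ l := by
      rintro rfl
      obtain ⟨g₀, rfl⟩ := exists_smul_C0 Fr x
      have key : ∀ {d}, d ∈ panel (g₀ • Fr.C0) ((k : ℕ) + 1) → d ≠ g₀ • Fr.C0 →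
          d = g₀ • Fr.P0 k := by
        intro d hd hdne
        have h1 := smul_mem_panel g₀⁻¹ hd
        rw [inv_smul_smul] at h1
        rcases hC0 _ h1 with h | h
        · exact absurd (by rw [← h, smul_inv_smul]) hdne
        · rw [← h, smul_inv_smul]
      exact hne ((key hy hyx).trans (key hy' hy'x).symm)
    by_contra hzz
    have hm' : y.sp m = y'.sp m := by
      have hk : (k : ℕ) + 1 ≠ m := fun h => hlast (Fin.ext (by omega))
      rw [mem_panel.1 hy m le_rfl (Ne.symm hk), mem_panel.1 hy' m le_rfl (Ne.symm hk)]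
    have hop : ∀ (w : H), w ∈ Fr.U.subgroupOf H → ∀ Z : Ch P m, (w • Z).sp m ⊓ perp P (Fr.C m) = ⊥ ↔
        Z.sp m ⊓ perp P (Fr.C m) = ⊥ := by
      intro w hw Z
      have hperp : (perp P (Fr.C m)).map ((w : P.isom) : V ≃ₗ[F] V).toLinearMap =
          perp P (Fr.C m) := by
        refine Submodule.eq_of_le_of_finrank_eq ?_ (LinearEquiv.finrank_map_eq _ _)
        rintro _ ⟨x, hx, rfl⟩
        have h1 := Frame.iter_step Fr (g := ((w : P.isom) : V ≃ₗ[F] V)) hw (k := m + 1) (x := x)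
        rw [Fr.Lv_of_lt (Nat.lt_succ_self m), show 2 * m + 1 - (m + 1) = m by omega] at h1
        exact h1 hx
      show ((w : P.isom) • Z).sp m ⊓ _ = ⊥ ↔ _
      conv_lhs => rw [Ch.smul_sp, ← hperp, ← Submodule.map_inf _ (LinearEquiv.injective _)]
      exact Submodule.map_eq_bot_iff
    have hX1bad : ¬ (Fr.X1 l).sp m ⊓ perp P (Fr.C m) = ⊥ := by
      intro hb
      have h1 := Fr.gen_mem_ch (w := (1, Function.update (fun _ => true) l false)) (j := l) (i := m) l.2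
      simp [Frame.gen, idx] at h1
      have h2 : Fr.e l ∈ (Fr.X1 l).sp m ⊓ perp P (Fr.C m) :=
        ⟨h1, Fr.C_le_perp m m (Fr.e_mem_C l.2)⟩
      rw [hb, Submodule.mem_bot] at h2
      simpa [h2] using Fr.a_e l l
    rw [e, e'] at hm'
    rcases hz with rfl | rfl <;> rcases hz' with rfl | rfl
    · exact hzz rfl
    · refine hX1bad ((hop v hv _).1 ?_)
      rw [← hm']
      exact (hop u hu _).2 (Fr.X0_opp m le_rfl)
    · refine hX1bad ((hop u hu _).1 ?_)
      rw [hm']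
      exact (hop v hv _).2 (Fr.X0_opp m le_rfl)
    · exact hzz rfl

end Cfsg.Agent.Lib.LieChambers
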