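import Cfsg.Agent.Lib.LieChambers.Quot
import Cfsg.Agent.Lib.LieChambers.FrameSys
import Cfsg.Agent.Lib.SteinbergChar.Symplectic
import Cfsg.Agent.Lib.SteinbergChar.Unitary
import Cfsg.Agent.Lib.SteinbergChar.Orthogonal

/-!
Automorphisms of order prime to `p` centralising a Sylow `p`-subgroup: the classical groups.
-/

set_option autoImplicit false
set_option linter.unusedSectionVars false
set_option linter.style.haveILetI false

namespace Cfsg.Agent.Lib.LieChambers

open MulAction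
open Cfsg.Agent.Lib.Forms
open Cfsg.Agent.Lib.SteinbergChar

/-- The automorphisms of order prime to `p` centralising a Sylow `p`-subgroup are trivial. -/
def Rigid (p : ℕ) (G : Type*) [Group G] : Prop :=
  ∀ α : MulAut G, ¬ p ∣ orderOf α → ∀ P : Sylow p G, (∀ x ∈ (P : Subgroup G), α x = x) → α = 1

theorem rigid_of_sys {p : ℕ} [Fact p.Prime] {H G X K : Type*} [Group H] [Group G]
    [MulAction H X] [Finite X] [Finite H] [Finite G] [IsSimpleGroup G] (S : Sys p H X K)
    (π : H →* G) (hπ : Function.Surjective π) (hker : π.ker ≤ Subgroup.center H) : Rigid p G :=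
  fun α hα P hfix => aut_eq_one_of_surjective S π hπ (fun n hn => S.fixed n fun u hu => by
    rw [← mul_smul, Subgroup.mem_center_iff.1 (hker hn) u, mul_smul, S.U_fix u hu]) α hα P hfix

theorem rigid_of_sys_center {p : ℕ} [Fact p.Prime] {H H₀ G X K : Type*} [Group H] [Group H₀]
    [Group G] [MulAction H X] [Finite X] [Finite H] [Finite G] [IsSimpleGroup G] (S : Sys p H X K)
    (f : H₀ ≃* H) (e : G ≃* H₀ ⧸ Subgroup.center H₀) : Rigid p G := by
  refine rigid_of_sys S
    (e.symm.toMonoidHom.comp ((QuotientGroup.mk' _).comp f.symm.toMonoidHom))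
    (e.symm.surjective.comp ((QuotientGroup.mk'_surjective _).comp f.symm.surjective)) ?_
  intro h hh
  simp only [MonoidHom.mem_ker, MonoidHom.comp_apply, MulEquiv.coe_toMonoidHom,
    EmbeddingLike.map_eq_one_iff, QuotientGroup.mk'_apply, QuotientGroup.eq_one_iff] at hh
  exact Subgroup.mem_center_iff.2 fun g => f.symm.injective (by
    rw [map_mul, map_mul]; exact Subgroup.mem_center_iff.1 hh _)

variable {F : Type*} [Field F] [Fintype F] (p : ℕ) [Fact p.Prime] [CharP F p]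
variable {G : Type*} [Group G] [Finite G] [IsSimpleGroup G]

theorem rigid_PSp {m : ℕ} (hm : 1 ≤ m) (e : G ≃* Cfsg.PSp m F) : Rigid p G := by
  have hW : ∀ w, (Sp.frame m F).IsW w → w = 0 := fun w hw => (Sp.frame m F).aniso' hw rfl
  obtain ⟨S, -⟩ := nonempty_sys_thick (Sp.frame m F) p ⊤ le_top hm
    (fun g _ _ _ w hw => by rw [hW w hw, map_zero, map_zero])
    (fun l _ => ⟨0, 1, fun j => by simp, Or.inr one_ne_zero, rfl⟩) (by
      obtain ⟨g, hg⟩ := (Sp.frame m F).exists_swap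
      exact ⟨g, trivial, hg _⟩)
  exact rigid_of_sys_center S
    (((Symplectic.spEquiv m F).trans (Sp.isoEquiv m F)).trans Subgroup.topEquiv.symm) e

theorem rigid_PSU {n q : ℕ} (hF : Fintype.card F = q ^ 2) (hn : 2 ≤ n) (e : G ≃* Cfsg.PSU n F q) :
    Rigid p G := by
  classical
  obtain ⟨Fr, hU, hmid, hlast, hopp⟩ := SU.unitary_data hF n p hn
  obtain ⟨S, -⟩ := nonempty_sys_thick Fr p _ hU (Nat.div_pos hn (by norm_num)) hmid hlast hopp
  exact rigid_of_sys_center S (MonoidHom.ofInjective (SU.suHom_injective hF n)) e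

variable {ι : Type} [Fintype ι] [DecidableEq ι]

theorem rigid_pOmega_of_sys (Q : QuadraticForm F (ι → F)) (hQ : Nondeg Q) {f : (ι → F) → F}
    (hf : ∀ v, f v = Q v) {X K : Type*} [MulAction (Orth.om Q hQ) X] [Finite X]
    (S : Sys p (Orth.om Q hQ) X K) (e : G ≃* Cfsg.POmega F f) : Rigid p G :=
  rigid_of_sys_center S ((OrthOmega.omegaEquiv Q hf).trans
    ((commutator (orth Q)).equivMapOfInjective _ (Orth.equiv hQ).injective)) e

theorem rigid_aniso {m : ℕ} (hm : 1 ≤ m) {V' : Type*} [AddCommGroup V'] [Module F V']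
    [FiniteDimensional F V'] (Q : QuadraticForm F (ι → F)) (hQ : Nondeg Q)
    (φ : (ι → F) ≃ₗ[F] (Fin m ⊕ Fin m → F) × V') (R : QuadraticForm F V')
    (hR : ∀ z, R z = 0 → z = 0) (hφ : ∀ x, Q x = qPlus m (φ x).1 + R (φ x).2)
    {z : V'} (hz : z ≠ 0) (hd : p = 2 → Module.finrank F V' ≤ 2)
    (hq : (∃ a : F, a ≠ 0 ∧ a ≠ 1) ∨ Module.finrank F (ι → F) ≠ 4) {f : (ι → F) → F}
    (hf : ∀ v, f v = Q v) (e : G ≃* Cfsg.POmega F f) : Rigid p G := by
  obtain ⟨Fr, hU, hmid, hlast, hopp⟩ := Orth.aniso_data p Q hQ φ R hR hφ hz hd hq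
  obtain ⟨S, -⟩ := nonempty_sys_thick Fr p _ hU hm hmid hlast hopp
  exact rigid_pOmega_of_sys p Q hQ hf S e

theorem rigid_odd {m : ℕ} (hm : 1 ≤ m) (h2 : (2 : F) ≠ 0)
    (e : G ≃* Cfsg.POmega F (Cfsg.quadFormOdd m F)) : Rigid p G :=
  rigid_aniso p hm (OrthStd.qOddC m F) (OrthOmega.qOddC_nondeg m h2) (OrthStd.oddSplit m F)
    (qOne 1) (fun z hz => by simpa [qOne_apply] using hz)
    (fun x => by simp [OrthStd.qOddC]) one_ne_zero (fun _ => by simp [Module.finrank_self])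
    (Or.inl ⟨2, h2, fun h => one_ne_zero (add_eq_right.1 (show (1 : F) + 1 = 1 by
      rw [one_add_one_eq_two]; exact h))⟩) (OrthStd.quadFormOdd_eq m) e

theorem rigid_minus {m : ℕ} (hm : 2 ≤ m) {a b : F}
    (hab : ∀ z₁ z₂ : F, z₁ ^ 2 + a * z₁ * z₂ + b * z₂ ^ 2 = 0 → z₁ = 0 ∧ z₂ = 0)
    (e : G ≃* Cfsg.POmega F (Cfsg.quadFormMinus m F a b)) : Rigid p G :=
  rigid_aniso p (Nat.one_le_of_lt hm) (OrthStd.qMinusC m a b) (AutPOmega.qMinusC_nondeg m hab)
    (OrthStd.minusSplit m F) (qBin a b) (fun z hz => qBin_anisotropic hab z hz)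
    (fun x => by simp [OrthStd.qMinusC]) (z := fun _ => 1) (fun h => one_ne_zero (congrFun h 0))
    (fun _ => by simp) (Or.inr (by
      rw [Module.finrank_fintype_fun_eq_card]
      simp only [Fintype.card_sum, Fintype.card_fin]
      omega)) (OrthStd.quadFormMinus_eq m a b) e

theorem rigid_plus {m : ℕ} (hm : 3 ≤ m) (e : G ≃* Cfsg.POmega F (Cfsg.quadFormPlus m F)) :
    Rigid p G := by
  classical
  obtain ⟨Fr, l, hl, hW, hρ, hU, hpar, hopp⟩ := Orth.plus_data (F := F) p (m := m) (by omega)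
    (Or.inr (by rw [MaxSingular.finrank_space]; omega))
  obtain ⟨S, -⟩ := nonempty_sys_thin Fr p _ hU (by omega) l hl hW hρ
    (fun h hh e => hpar h hh (congrArg (fun D => Ch.sp D m) e)) hopp
  exact rigid_pOmega_of_sys p _ _ (OrthStd.quadFormPlus_eq m) S e

end Cfsg.Agent.Lib.LieChambers
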