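import Cfsg.Agent.Lib.LieChambers.System

/-!
An automorphism of order prime to `p` fixing the radical of a chamber pointwise is trivial.
-/

set_option autoImplicit false
set_option linter.unusedSectionVars false

namespace Cfsg.Agent.Lib.LieChambers

open MulAction

variable {p : ℕ} {G X K : Type*} [Group G] [MulAction G X] [Finite X] (S : Sys p G X K)

namespace Sys

/-- The stabiliser of `x` is carried to itself. -/
def Inv (σ : MulAut G) (x : X) : Prop :=
  (stabilizer G x).map σ.toMonoidHom = stabilizer G x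

variable {σ : MulAut G}

theorem map_conj_comm (g : G) (H : Subgroup G) :
    (H.map (MulAut.conj g).toMonoidHom).map σ.toMonoidHom =
      (H.map σ.toMonoidHom).map (MulAut.conj (σ g)).toMonoidHom := by
  rw [Subgroup.map_map, Subgroup.map_map]
  congr 1
  ext x
  simp

/-- Translates of the base chamber by elements of a panel stabiliser. -/
theorem exists_mover {k : K} {y a c : X} (ha : a ∈ S.panel k y) (hc : c ∈ S.panel k y)
    (hay : a ≠ y) (hcy : c ≠ y) : ∃ r : G, r • y = y ∧ r • a = c := by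
  obtain ⟨g, b, hb, rfl⟩ := S.exists_base y
  have h1 : ∀ d ∈ S.panel k (g • b), g⁻¹ • d ∈ S.panel k b := fun d hd => by
    have := S.smul_mem g⁻¹ hd
    rwa [inv_smul_smul] at this
  obtain ⟨u, hu, huac⟩ := S.trans b hb k _ (h1 a ha) _ (h1 c hc)
    (fun h => hay (by rw [← h, smul_inv_smul])) (fun h => hcy (by rw [← h, smul_inv_smul]))
  have hub : u • b = b := by
    have h2 := S.U_le_stab hu
    rw [← S.Bs_stab b hb] at h2
    exact h2
  refine ⟨g * u * g⁻¹, ?_, ?_⟩
  · rw [mul_smul, mul_smul, inv_smul_smul, hub]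
  · rw [mul_smul, mul_smul, huac, smul_inv_smul]

variable (hU : ∀ u ∈ S.U, σ u = u)
include hU

theorem map_U : S.U.map σ.toMonoidHom = S.U := by
  ext x
  constructor
  · rintro ⟨u, hu, rfl⟩
    simpa [hU u hu] using hu
  · exact fun hx => ⟨x, hx, hU x hx⟩

theorem inv_C : Inv σ S.C := by
  show (stabilizer G S.C).map σ.toMonoidHom = _
  rw [← S.normalizer_U]
  conv_rhs => rw [← S.map_U hU]
  exact Subgroup.map_equiv_normalizer_eq S.U σ

theorem map_stab (g : G) :
    (stabilizer G (g • S.C)).map σ.toMonoidHom = stabilizer G (σ g • S.C) := by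
  rw [stabilizer_smul_eq_stabilizer_map_conj, map_conj_comm, S.inv_C hU,
    ← stabilizer_smul_eq_stabilizer_map_conj]

theorem inv_opp {o : ℕ} (hσ : σ ^ o = 1) (hop : Nat.Coprime o p) (u : G) (hu : u ∈ S.U) :
    Inv σ (u • S.x₀) := by
  obtain ⟨g, hg⟩ := S.exists_stab S.x₀
  obtain ⟨u₀, hu₀, z, hz, hgz⟩ := S.free (σ g • S.C) fun w hw hwx => by
    have h1 : σ w ∈ (stabilizer G (g • S.C)).map σ.toMonoidHom := by
      rw [S.map_stab hU, hU w hw]
      exact hwx
    obtain ⟨y, hy, hyw⟩ := h1
    obtain rfl := σ.injective hyw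
    rw [← hg] at hy
    exact S.U_free _ hw hy
  obtain ⟨H, hH⟩ : ∃ H, H = stabilizer G S.x₀ := ⟨_, rfl⟩
  have h0 : H.map σ.toMonoidHom = H.map (MulAut.conj u₀).toMonoidHom := by
    rw [hH, hg, S.map_stab hU, hgz, stabilizer_smul_eq_stabilizer_map_conj, S.Z_stab z hz, hg]
  have hpow : ∀ j : ℕ, H.map (σ ^ j : MulAut G).toMonoidHom =
      H.map (MulAut.conj (u₀ ^ j)).toMonoidHom := by
    intro j
    induction j with
    | zero => simp
    | succ j ih =>
      have e1 : (σ ^ (j + 1) : MulAut G).toMonoidHom =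
          σ.toMonoidHom.comp (σ ^ j : MulAut G).toMonoidHom := by
        ext x; simp [pow_succ']
      have e2 : (MulAut.conj (u₀ ^ (j + 1))).toMonoidHom =
          (MulAut.conj (u₀ ^ j)).toMonoidHom.comp (MulAut.conj u₀).toMonoidHom := by
        ext x; simp [pow_succ, mul_assoc]
      rw [e1, ← Subgroup.map_map, ih, map_conj_comm, hU _ (pow_mem hu₀ j), h0, e2,
        ← Subgroup.map_map]
  have hfix : u₀ ^ o = 1 := by
    refine S.U_free _ (pow_mem hu₀ o) ?_
    have h1 := hpow o
    rw [hσ, show (1 : MulAut G).toMonoidHom = MonoidHom.id G from rfl, Subgroup.map_id] at h1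
    have h2 : stabilizer G ((u₀ ^ o * g) • S.C) = stabilizer G (g • S.C) := by
      rw [mul_smul, stabilizer_smul_eq_stabilizer_map_conj, ← hg, ← hH]
      exact h1.symm
    have h3 := S.smul_eq_of_stab_eq h2
    rw [mul_smul] at h3
    have h4 : u₀ ^ o ∈ stabilizer G (g • S.C) := h3
    rwa [← hg] at h4
  have hu1 : u₀ = 1 := by
    obtain ⟨k, hk⟩ := S.p_group ⟨u₀, hu₀⟩
    have hk' : u₀ ^ p ^ k = 1 := by simpa [Subtype.ext_iff] using hk
    have hd := Nat.dvd_gcd (orderOf_dvd_of_pow_eq_one hfix) (orderOf_dvd_of_pow_eq_one hk')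
    rw [(Nat.Coprime.pow_right k hop).gcd_eq_one] at hd
    exact orderOf_eq_one_iff.1 (Nat.dvd_one.1 hd)
  subst hu1
  show (stabilizer G (u • S.x₀)).map σ.toMonoidHom = _
  rw [stabilizer_smul_eq_stabilizer_map_conj, map_conj_comm, hU u hu, ← hH, h0]
  simp only [map_one]
  rw [show (1 : MulAut G).toMonoidHom = MonoidHom.id G from rfl, Subgroup.map_id]

theorem inv_all {o : ℕ} (hσ : σ ^ o = 1) (hop : Nat.Coprime o p) (x : X) : Inv σ x := by
  induction x using S.rank_induction with
  | hopp u hu => exact S.inv_opp hU hσ hop u hu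
  | hasc x k hop' hk ih =>
    classical
    obtain ⟨y, hy, hyx⟩ := S.exists_ne k x
    have iy := ih y (hk y hy hyx)
    by_cases hthin : ∀ d ∈ S.panel k x, d = x ∨ d = y
    · rw [Inv, S.stab_thin hy hyx hthin]
      exact iy
    push Not at hthin
    obtain ⟨y', hy', hy'x, hne⟩ := hthin
    have iy' := ih y' (hk y' hy' hy'x)
    have mem : ∀ {a d : X}, a ∈ S.panel k x → d ∈ S.panel k x → d ∈ S.panel k a := by
      intro a d ha hd; rwa [S.eq_of_mem ha]
    obtain ⟨r, hr', hry⟩ := S.exists_mover (mem hy' hy) (mem hy' (S.self_mem k x))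
      hne.symm hy'x.symm
    have hmem : ∀ {a : X}, Inv σ a → ∀ {s : G}, s • a = a → σ s • a = a := by
      intro a ia s hs
      have : σ s ∈ stabilizer G a := ia ▸ Subgroup.mem_map_of_mem σ.toMonoidHom hs
      exact this
    have hσr : σ r • y' = y' := hmem iy' hr'
    have hmap : (stabilizer G x).map σ.toMonoidHom = stabilizer G (σ r • y) := by
      conv_lhs => rw [← hry, stabilizer_smul_eq_stabilizer_map_conj, map_conj_comm, iy]
      exact (stabilizer_smul_eq_stabilizer_map_conj _ _).symm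
    have hz : σ r • y ∈ S.panel k x := by
      have h1 := S.smul_mem (σ r) (mem hy' hy)
      rw [hσr, S.eq_of_mem hy'] at h1
      exact h1
    by_cases hzx : σ r • y = x
    · rw [Inv, hmap, hzx]
    exfalso
    have iz := ih _ (hk _ hz hzx)
    have hst : stabilizer G x = stabilizer G (σ r • y) := by
      have : (stabilizer G x).map σ.toMonoidHom =
          (stabilizer G (σ r • y)).map σ.toMonoidHom := by rw [hmap, iz]
      exact Subgroup.map_injective σ.injective this
    have hzy : σ r • y ≠ y := fun h => by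
      have h1 : σ r ∈ (stabilizer G y).map σ.toMonoidHom := iy.symm ▸ (show σ r ∈ stabilizer G y from h)
      obtain ⟨r', hr1, hr2⟩ := h1
      obtain rfl := σ.injective hr2
      exact hyx ((mem_stabilizer_iff.1 hr1).symm.trans hry)
    obtain ⟨t, htx, htz⟩ := S.exists_mover hz hy hzx hyx
    have : t ∈ stabilizer G (σ r • y) := hst ▸ htx
    exact hzy (this.symm.trans htz)

/-- The conclusion. -/
theorem eq_one {o : ℕ} (hσ : σ ^ o = 1) (hop : Nat.Coprime o p)
    (hfaith : ∀ g : G, (∀ h : G, g • h • S.C = h • S.C) → g = 1) : σ = 1 := by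
  have hd : ∀ g : G, (g⁻¹ * σ g) • S.C = S.C := fun g => by
    have h1 := S.map_stab hU g
    rw [S.inv_all hU hσ hop (g • S.C)] at h1
    rw [mul_smul, inv_smul_eq_iff]
    exact (S.smul_eq_of_stab_eq h1).symm
  refine MulEquiv.ext fun g => ?_
  have h := hfaith (g⁻¹ * σ g) fun x => by
    have h1 := hd (g * x)
    rw [map_mul, show (g * x)⁻¹ * (σ g * σ x) = x⁻¹ * (g⁻¹ * σ g) * x * (x⁻¹ * σ x) by group,
      mul_smul, hd x, mul_smul, mul_smul, inv_smul_eq_iff] at h1
    exact h1
  exact (inv_mul_eq_one.1 h).symm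

end Sys

end Cfsg.Agent.Lib.LieChambers
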