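import Cfsg.Agent.Lib.SteinbergChar.Roots

/-!
The panels through the base chamber of a frame: the radical is transitive on the other members.
-/

set_option autoImplicit false
set_option linter.unusedSectionVars false
set_option linter.style.haveILetI false

namespace Cfsg.Agent.Lib.LieChambers

open Module
open Cfsg.Agent.Lib.Forms
open Cfsg.Agent.Lib.SteinbergChar
open Cfsg.Agent.Lib.SteinbergChar.Frame (partner idx sup_span_eq)

variable {F V : Type*} [Field F] [Finite F] [AddCommGroup V] [Module F V] [FiniteDimensional F V]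
  {σ : F →+* F} {P : FormPair σ V} {m : ℕ} (Fr : Frame P m)

/-- Smul preserves panels. -/
theorem smul_mem_panel (g : P.isom) {D Y : Ch P m} {k : ℕ} (h : Y ∈ panel D k) :
    g • Y ∈ panel (g • D) k := by
  rw [mem_panel] at h ⊢
  intro i hi hik
  rw [Ch.smul_sp, Ch.smul_sp, h i hi hik]

theorem panel_eq_of_mem {D Y : Ch P m} {k : ℕ} (h : Y ∈ panel D k) : panel Y k = panel D k := by
  ext Z
  simp only [mem_panel] at h ⊢
  constructor <;> intro hz i hi hik
  · rw [hz i hi hik, h i hi hik]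
  · rw [hz i hi hik, h i hi hik]

theorem self_mem_panel (D : Ch P m) (k : ℕ) : D ∈ panel D k := mem_panel.2 fun _ _ _ => rfl

include Fr in
/-- All chambers are conjugate under the isometry group. -/
theorem exists_smul_C0 (D : Ch P m) : ∃ g : P.isom, g • Fr.C0 = D := by
  classical
  have hx : ∀ j : Fin m, ∃ x ∈ D.sp (j + 1), x ∉ D.sp j := by
    intro j
    by_contra h
    push Not at h
    have := Submodule.finrank_mono (show D.sp (j + 1) ≤ D.sp j from h)
    rw [D.dim _ (show (j : ℕ) + 1 ≤ m from j.2), D.dim _ j.2.le] at this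
    omega
  choose x hx hx' using hx
  have hmem : ∀ {i : ℕ} {j : Fin m}, (j : ℕ) < i → x j ∈ D.sp i := fun {i j} h => D.mono h (hx j)
  have hspan : ∀ i ≤ m, D.sp i = Submodule.span F (x '' {j | (j : ℕ) < i}) := by
    intro i hi
    induction i with
    | zero => simp [D.sp_zero]
    | succ i ih =>
      refine le_antisymm ?_ (Submodule.span_le.2 (by rintro _ ⟨j, hj, rfl⟩; exact hmem hj))
      rw [← sup_span_eq (D.mono (Nat.le_succ i)) (by rw [D.dim _ hi, D.dim _ (by omega)])
        (hx ⟨i, hi⟩) (hx' ⟨i, hi⟩), ih (by omega)]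
      exact sup_le (Submodule.span_mono (Set.image_mono fun j (hj : (j : ℕ) < i) => hj.trans (Nat.lt_succ_self i)))
        ((Submodule.span_singleton_le_iff_mem _ _).2
          (Submodule.subset_span ⟨⟨i, hi⟩, Nat.lt_succ_self i, rfl⟩))
  have hli : LinearIndependent F x := by
    rw [linearIndependent_iff_card_eq_finrank_span]
    have : Set.range x = x '' {j | (j : ℕ) < m} := by ext z; simp
    rw [Set.finrank, this, ← hspan m le_rfl, D.dim m le_rfl, Fintype.card_fin]
  have he : LinearIndependent F Fr.e :=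
    Fr.gen_linearIndependent.comp (fun i => (i, false)) fun i j h => congrArg Prod.fst h
  have hts : ∀ j, x j ∈ D.sp m := fun j => hmem j.2
  obtain ⟨g, hg, hgx⟩ := P.witt_family Fr.e x he hli
    (fun i j => by rw [(D.ts _ (hts i)).2 _ (hts j), Fr.rel.Bee])
    (fun i => by rw [(D.ts _ (hts i)).1, Fr.rel.Ne])
  refine ⟨⟨g, hg⟩, Ch.ext' fun i hi => ?_⟩
  rw [Ch.smul_sp, Frame.C0_sp, Frame.C, Submodule.map_span, hspan i hi, ← Set.image_comp]
  congr 1
  exact Set.image_congr fun j _ => hgx j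

/-- The root element adding a multiple of `e i` to `e i'`. -/
theorem exists_root_t {i i' : Fin m} (h : (i : ℕ) < i') (t : F) :
    ∃ u ∈ Fr.U, ∀ x, (u : V ≃ₗ[F] V) x - x =
      (Fr.a i' x * t) • Fr.e i - (Fr.b i x * σ t) • Fr.f i' := by
  classical
  have hne : i ≠ i' := fun e => by rw [e] at h; exact lt_irrefl _ h
  have hR : Rel P (Function.update Fr.e i' (Fr.e i' + t • Fr.e i))
      (Function.update Fr.f i (Fr.f i - σ t • Fr.f i')) := by
    refine ⟨fun j => ?_, fun j => ?_, fun j l => ?_, fun j l => ?_, fun j l => ?_⟩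
    · rcases eq_or_ne j i' with rfl | hj
      · rw [Function.update_self, N_add_eq P (by rw [P.B_smul_right, Fr.rel.Bee, mul_zero]),
          P.N_smul, Fr.rel.Ne, Fr.rel.Ne, mul_zero, add_zero]
      · rw [Function.update_of_ne hj, Fr.rel.Ne]
    · rcases eq_or_ne j i with rfl | hj
      · rw [Function.update_self, sub_eq_add_neg, ← neg_smul,
          N_add_eq P (by rw [P.B_smul_right, Fr.rel.Bff, mul_zero]), P.N_smul, Fr.rel.Nf,
          Fr.rel.Nf, mul_zero, add_zero]
      · rw [Function.update_of_ne hj, Fr.rel.Nf]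
    · simp only [Function.update_apply]
      split_ifs <;> simp [Fr.rel.Bee, P.B_smul_left, P.B_smul_right]
    · simp only [Function.update_apply]
      split_ifs <;> simp [Fr.rel.Bff, P.B_smul_left, P.B_smul_right]
    · simp only [Function.update_apply]
      split_ifs <;> simp_all [Fr.rel.Bef, P.B_smul_left, P.B_smul_right, eq_comm]
  obtain ⟨u, hux, hue, huf, huw⟩ := Fr.exists_ext hR LinearMap.id
    (fun w hw j => by
      simp only [Function.update_apply, LinearMap.id_apply]
      constructor <;> split_ifs <;> simp [(hw _).1, (hw _).2, P.B_smul_left])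
    (fun _ _ _ _ => rfl) fun _ _ => rfl
  refine ⟨u, Fr.mem_U_of (fun j => ?_) (fun j => ?_) fun w hw => ?_, fun x => ?_⟩
  · rw [hue]
    rcases eq_or_ne j i' with rfl | hj
    · rw [Function.update_self, add_sub_cancel_left]
      exact Submodule.smul_mem _ _ (Fr.e_mem_C h)
    · rw [Function.update_of_ne hj, sub_self]; exact zero_mem _
  · rw [huf]
    rcases eq_or_ne j i with rfl | hj
    · rw [Function.update_self, sub_sub_cancel_left, neg_mem_iff]
      refine Submodule.smul_mem _ _ (Fr.mem_perp_C.2 fun l hl => ?_)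
      rw [Frame.b_f, if_neg]
      rintro rfl
      omega
    · rw [Function.update_of_ne hj, sub_self]; exact zero_mem _
  · rw [huw w hw, LinearMap.id_apply, sub_self]; exact zero_mem _
  · rw [hux, Fr.ext_sub, LinearMap.id_apply, sub_self, zero_add,
      Finset.sum_eq_single_of_mem i' (Finset.mem_univ _)
        (fun j _ hj => by rw [Function.update_of_ne hj, sub_self, smul_zero]),
      Finset.sum_eq_single_of_mem i (Finset.mem_univ _)
        (fun j _ hj => by rw [Function.update_of_ne hj, sub_self, smul_zero]),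
      Function.update_self, Function.update_self, add_sub_cancel_left, sub_sub_cancel_left,
      smul_neg, smul_smul, smul_smul, ← sub_eq_add_neg]

/-- The apartment chamber next to the base chamber in the panel of type `k + 1`. -/
abbrev Q (k : Fin m) : Ch P m := Fr.ch (partner k (1, fun _ => false))

theorem Q_mem (k : Fin m) : Q Fr k ∈ panel Fr.C0 (k + 1) :=
  mem_panel.2 fun _ hi hik => Fr.ch_partner_sp k _ hi hik

theorem mem_Q (k : Fin m) :
    (if h : (k : ℕ) + 1 < m then Fr.e ⟨k + 1, h⟩ else Fr.f k) ∈ (Q Fr k).sp (k + 1) := by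
  have h1 := Fr.gen_mem_ch (w := partner k (1, fun _ => false)) (Nat.lt_succ_self (k : ℕ))
  have h2 : Fr.gen (idx (partner k (1, fun _ => false)) k) =
      (if h : (k : ℕ) + 1 < m then Fr.e ⟨k + 1, h⟩ else Fr.f k) := by
    by_cases h : (k : ℕ) + 1 < m
    · simp [partner, h, Frame.gen, Frame.idx]
    · simp [partner, h, Frame.gen, Frame.idx]
  rwa [h2] at h1

theorem Q_ne (k : Fin m) : Q Fr k ≠ Fr.C0 := by
  intro e
  have h1 := mem_Q Fr k
  rw [e, Frame.C0_sp, Frame.mem_C_iff] at h1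
  split_ifs at h1 with h
  · simpa [Frame.a_e] using h1.2.2 ⟨k + 1, h⟩ le_rfl
  · simpa [Frame.b_f] using h1.2.1 k

/-- A member of the panel containing a given new vector. -/
theorem eq_of_mem_sp {k : Fin m} {Y Y' : Ch P m} {D : Ch P m} (hY : Y ∈ panel D (k + 1))
    (hY' : Y' ∈ panel D (k + 1)) {x : V} (h : x ∈ Y.sp (k + 1)) (h' : x ∈ Y'.sp (k + 1))
    (hx : x ∉ D.sp k) : Y = Y' := by
  rw [mem_panel] at hY hY'
  refine Ch.ext' fun i hi => ?_
  rcases eq_or_ne i ((k : ℕ) + 1) with rfl | hik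
  · have hk1 : (k : ℕ) + 1 ≤ m := k.2
    have hd : ∀ Z : Ch P m, Z.sp k = D.sp k → x ∈ Z.sp (k + 1) →
        D.sp k ⊔ Submodule.span F {x} = Z.sp (k + 1) := fun Z hZ hxZ => by
      refine sup_span_eq ?_ ?_ hxZ hx
      · rw [← hZ]; exact Z.mono (Nat.le_succ _)
      · rw [Z.dim _ hk1, D.dim _ k.2.le]
    rw [← hd Y (hY k k.2.le (by omega)) h, hd Y' (hY' k k.2.le (by omega)) h']
  · rw [hY i hi hik, hY' i hi hik]

/-- The radical is transitive on the members of a panel other than the base chamber. -/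
theorem panel_orbit {k : Fin m} {Y : Ch P m} (hY : Y ∈ panel Fr.C0 (k + 1)) (hne : Y ≠ Fr.C0) :
    ∃ u ∈ Fr.U, u • Q Fr k = Y := by
  classical
  have hk1 : (k : ℕ) + 1 ≤ m := k.2
  have hYk : Y.sp k = Fr.C k := by
    rw [mem_panel.1 hY k k.2.le (by omega), Frame.C0_sp]
  obtain ⟨x, hx, hx'⟩ : ∃ x ∈ Y.sp (k + 1), x ∉ Fr.C (k + 1) := by
    by_contra h
    push Not at h
    refine hne (Ch.ext' fun i hi => ?_)
    rcases eq_or_ne i ((k : ℕ) + 1) with rfl | hik
    · refine Submodule.eq_of_le_of_finrank_eq ?_ (by rw [Y.dim _ hi, Fr.C0.dim _ hi])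
      rw [Frame.C0_sp]; exact h
    · exact mem_panel.1 hY i hi hik
  have hmemC : ∀ {u : P.isom}, u ∈ Fr.U → u • Q Fr k ∈ panel Fr.C0 (k + 1) := fun {u} hu => by
    have := smul_mem_panel u (Q_mem Fr k)
    rwa [Fr.U_fix hu] at this
  by_cases hk : (k : ℕ) + 1 < m
  · set k' : Fin m := ⟨k + 1, hk⟩
    have hxC : x ∈ Fr.C (k + 1 + 1) := by
      have h1 : Y.sp (k + 1 + 1) = Fr.C (k + 1 + 1) := by
        rw [mem_panel.1 hY _ (by omega) (by omega), Frame.C0_sp]
      exact h1 ▸ Y.mono (Nat.le_succ _) hx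
    rw [Frame.mem_C_iff] at hxC
    have ha : Fr.a k' x ≠ 0 := by
      intro h0
      refine hx' (Fr.mem_C_iff.2 ⟨hxC.1, hxC.2.1, fun j hj => ?_⟩)
      rcases eq_or_ne j k' with rfl | hj'
      · exact h0
      · exact hxC.2.2 j (by
          have : (j : ℕ) ≠ k + 1 := fun e => hj' (Fin.ext e)
          omega)
    obtain ⟨u, hu, hux⟩ := exists_root_t Fr (i := k) (i' := k') (Nat.lt_succ_self (k : ℕ))
      (Fr.a k x / Fr.a k' x)
    refine ⟨u, hu, ?_⟩
    set y := (u : V ≃ₗ[F] V) (Fr.e k') with hy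
    have hyv : y = Fr.e k' + (Fr.a k x / Fr.a k' x) • Fr.e k := by
      rw [hy, ← sub_eq_iff_eq_add', hux]
      simp [Frame.a_e, Frame.b_e]
    have hyQ : y ∈ (u • Q Fr k).sp (k + 1) := by
      rw [Ch.smul_sp]
      refine Submodule.mem_map_of_mem ?_
      have := mem_Q Fr k
      rwa [dif_pos hk] at this
    have hdiff : x - Fr.a k' x • y ∈ Fr.C k := by
      rw [hyv, Frame.mem_C_iff]
      refine ⟨?_, fun j => ?_, fun j hj => ?_⟩
      · simp [hxC.1, Frame.pr_e]
      · simp [hxC.2.1, Frame.b_e]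
      · simp only [map_sub, map_add, map_smul, smul_eq_mul, Frame.a_e]
        rcases eq_or_ne j k' with rfl | hj'
        · have : k ≠ k' := fun e => by
            have := congrArg Fin.val e; simp [k'] at this
          simp [this]
        rcases eq_or_ne j k with rfl | hj''
        · rw [if_neg (fun e => hj' e.symm), if_pos rfl, zero_add, mul_one,
            mul_div_cancel₀ _ ha, sub_self]
        · have h3 : (j : ℕ) ≠ k + 1 := fun e => hj' (Fin.ext e)
          have h4 : (j : ℕ) ≠ k := fun e => hj'' (Fin.ext e)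
          simp [Ne.symm hj', Ne.symm hj'', hxC.2.2 j (by omega)]
    have hyY : y ∈ Y.sp (k + 1) := by
      have h1 : Fr.a k' x • y ∈ Y.sp (k + 1) := by
        have := sub_mem hx (Y.mono (Nat.le_succ _) (hYk.symm ▸ hdiff))
        rwa [sub_sub_cancel] at this
      exact (Submodule.smul_mem_iff _ ha).1 h1
    refine eq_of_mem_sp (hmemC hu) hY hyQ hyY ?_
    rw [Frame.C0_sp, Frame.mem_C_iff]
    rintro ⟨-, -, h3⟩
    have h5 := h3 k' (Nat.le_succ _)
    have hne' : k ≠ k' := fun e => by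
      have := congrArg Fin.val e; simp [k'] at this
    rw [hyv] at h5
    simp [Frame.a_e, hne'] at h5
  · have hkm : (k : ℕ) + 1 = m := by omega
    have hts := Y.ts_at (k + 1)
    have hb : ∀ j : Fin m, j ≠ k → Fr.b j x = 0 := fun j hj => by
      have h4 : (j : ℕ) ≠ k := fun e => hj (Fin.ext e)
      have hej : Fr.e j ∈ Y.sp (k + 1) :=
        Y.mono (Nat.le_succ _) (hYk.symm ▸ Fr.e_mem_C (by omega))
      exact (hts _ hej).2 _ hx
    have hbk : Fr.b k x ≠ 0 := by
      intro h0
      refine hx' (Fr.C_mono (by omega) (Fr.mem_C_of_singular (Fr.mem_perp_C.2 fun j _ => ?_) (hts x hx).1))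
      rcases eq_or_ne j k with rfl | hj
      · exact h0
      · exact hb j hj
    set x₁ := (Fr.b k x)⁻¹ • x with hx₁
    have hx₁Y : x₁ ∈ Y.sp (k + 1) := Submodule.smul_mem _ _ hx
    set x₂ := Fr.f k + Fr.pr x₁ + Fr.a k x₁ • Fr.e k with hx₂
    have hdiff : x₁ - x₂ ∈ Fr.C k := by
      rw [Frame.mem_C_iff]
      refine ⟨?_, fun j => ?_, fun j hj => ?_⟩
      · simp [hx₂, Frame.pr_f, Frame.pr_e, Fr.pr_of_isW (Fr.pr_isW x₁)]
      · rcases eq_or_ne j k with rfl | hjk
        · simp [hx₂, hx₁, Frame.b_f, Frame.b_e, Fr.b_isW _ (Fr.pr_isW x), hbk]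
        · simp [hx₂, hx₁, Frame.b_f, Frame.b_e, Fr.b_isW _ (Fr.pr_isW x), hb j hjk, hjk]
      · obtain rfl : j = k := Fin.ext (by omega)
        simp [hx₂, Frame.a_f, Frame.a_e, Fr.a_isW _ (Fr.pr_isW x₁)]
    have hx₂Y : x₂ ∈ Y.sp (k + 1) := by
      have := sub_mem hx₁Y (Y.mono (Nat.le_succ _) (hYk.symm ▸ hdiff))
      rwa [sub_sub_cancel] at this
    obtain ⟨u, hu, hux⟩ := Fr.exists_root_last k hkm (Fr.pr_isW x₁) (hts _ hx₂Y).1
    refine ⟨u, hu, eq_of_mem_sp (hmemC hu) hY ?_ hx₂Y ?_⟩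
    · have e : (u : V ≃ₗ[F] V) (Fr.f k) = x₂ := by
        rw [← sub_add_cancel ((u : V ≃ₗ[F] V) (Fr.f k)) (Fr.f k), hux, hx₂]
        simp [Frame.b_f, Frame.pr_f]
        abel
      rw [Ch.smul_sp, ← e]
      refine Submodule.mem_map_of_mem ?_
      have := mem_Q Fr k
      rwa [dif_neg hk] at this
    · rw [Frame.C0_sp, Frame.mem_C_iff]
      rintro ⟨-, h2, -⟩
      have := h2 k
      simp [hx₂, Frame.b_f, Frame.b_e, Fr.b_isW _ (Fr.pr_isW x₁)] at this

end Cfsg.Agent.Lib.LieChambers
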