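import Cfsg.Agent.Lib.LieChambers.Fix

/-!
Passing to a quotient by a kernel fixing the chambers; the statement for simple groups.
-/

set_option autoImplicit false
set_option linter.unusedSectionVars false

namespace Cfsg.Agent.Lib.LieChambers

open MulAction

variable {p : ℕ} {H G X K : Type*} [Group H] [Group G] [MulAction H X] [Finite X]

/-- A power of a lift of a `p`-element is a `p`-element lift. -/
theorem exists_p_lift [Finite H] [Fact p.Prime] {π : H →* G} {g : G} (hg : ∃ k, g ^ p ^ k = 1)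
    {h : H} (hh : π h = g) : ∃ c : ℕ, π (h ^ c) = g ∧ ∃ k, (h ^ c) ^ p ^ k = 1 := by
  obtain ⟨a, ha⟩ := hg
  obtain ⟨b, s, hs, hbs⟩ := Nat.exists_eq_pow_mul_and_not_dvd
    (orderOf_pos h).ne' p (Fact.out : p.Prime).ne_one
  obtain ⟨c, hc0, hc1⟩ := Nat.chineseRemainder
    (((Fact.out : p.Prime).coprime_iff_not_dvd.2 hs).symm.pow_right a) 0 1
  refine ⟨c, ?_, b, ?_⟩
  · rw [map_pow, hh]
    conv_rhs => rw [← pow_one g]
    rw [pow_eq_pow_iff_modEq]
    exact hc1.of_dvd (orderOf_dvd_of_pow_eq_one ha)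
  · rw [← pow_mul, ← orderOf_dvd_iff_pow_eq_one, hbs, mul_comm]
    exact Nat.mul_dvd_mul_right (Nat.modEq_zero_iff_dvd.1 hc0) _

namespace Sys

variable (S : Sys p H X K)

theorem fix_all_of_fix_C {N : Subgroup H} [N.Normal] (hN : ∀ n ∈ N, n • S.C = S.C) {n : H}
    (hn : n ∈ N) (x : X) : n • x = x := by
  obtain ⟨g, b, hb, rfl⟩ := S.exists_base x
  have h1 : g⁻¹ * n * g ∈ stabilizer H b := by
    rw [S.Bs_stab b hb]
    exact hN _ (by simpa using Subgroup.Normal.conj_mem ‹N.Normal› n hn g⁻¹)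
  have h2 : (g⁻¹ * n * g) • b = b := h1
  rw [mul_smul, mul_smul, inv_smul_eq_iff] at h2
  exact h2

/-- The action of a quotient by a kernel acting trivially. -/
noncomputable def quotAct (π : H →* G) (hπ : Function.Surjective π)
    (h : ∀ n ∈ π.ker, ∀ x : X, n • x = x) : MulAction G X :=
  MulAction.compHom X (π.liftOfSurjective hπ ⟨MulAction.toPermHom H X, fun n hn =>
    MonoidHom.mem_ker.2 (Equiv.ext fun x => h n hn x)⟩)

theorem quotAct_smul {π : H →* G} {hπ : Function.Surjective π}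
    {h : ∀ n ∈ π.ker, ∀ x : X, n • x = x} (a : H) (x : X) :
    letI := quotAct π hπ h; π a • x = a • x := by
  letI := quotAct π hπ h
  show (π.liftOfSurjective hπ ⟨MulAction.toPermHom H X, _⟩ (π a)) x = a • x
  simp

variable [MulAction G X]

/-- The system of the quotient. -/
def push [Finite H] [Fact p.Prime] (π : H →* G) (hπ : Function.Surjective π)
    (hact : ∀ (h : H) (x : X), π h • x = h • x) : Sys p G X K :=
  have hst : ∀ {x y : X}, stabilizer H x = stabilizer H y → stabilizer G x = stabilizer G y := by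
    intro x y e
    ext g
    obtain ⟨h, rfl⟩ := hπ g
    simp only [mem_stabilizer_iff, hact]
    exact SetLike.ext_iff.1 e h
  { U := S.U.map π
    C := S.C
    x₀ := S.x₀
    Bs := S.Bs
    Z := S.Z
    rank := S.rank
    panel := S.panel
    self_mem := S.self_mem
    eq_of_mem := S.eq_of_mem
    smul_mem := fun g => by obtain ⟨h, rfl⟩ := hπ g; simp only [hact]; exact S.smul_mem h
    exists_ne := S.exists_ne
    U_fix := by rintro _ ⟨u, hu, rfl⟩; rw [hact]; exact S.U_fix u hu
    U_free := by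
      rintro _ ⟨u, hu, rfl⟩ h
      rw [hact] at h
      rw [S.U_free u hu h, map_one]
    U_ne := fun h => by
      obtain ⟨u, hu, hu1⟩ := S.U.ne_bot_iff_exists_ne_one.1 S.U_ne |>.elim
        fun u hu => (⟨u.1, u.2, fun e => hu (Subtype.ext e)⟩ : ∃ u, u ∈ S.U ∧ u ≠ 1)
      refine hu1 (S.U_free u hu ?_)
      have : π u = 1 := (Subgroup.mem_bot).1 (h.le (Subgroup.mem_map_of_mem π hu))
      rw [← hact, this, one_smul]
    rank_smul := by rintro _ ⟨u, hu, rfl⟩ x; rw [hact]; exact S.rank_smul u hu x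
    asc := fun x hx => S.asc x fun u hu => by
      rw [← hact]; exact hx _ (Subgroup.mem_map_of_mem π hu)
    C_mem := S.C_mem
    Bs_stab := fun b hb => hst (S.Bs_stab b hb)
    trans := fun b hb k a ha c hc hab hcb => by
      obtain ⟨u, hu, h⟩ := S.trans b hb k a ha c hc hab hcb
      exact ⟨π u, Subgroup.mem_map_of_mem π hu, by rw [hact]; exact h⟩
    Bs_thin := S.Bs_thin
    x₀_mem := by
      obtain ⟨g, b, hb, h⟩ := S.x₀_mem
      exact ⟨π g, b, hb, by rw [hact]; exact h⟩
    x₀_Z := S.x₀_Z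
    Z_stab := fun z hz => hst (S.Z_stab z hz)
    Z_thin := by
      rintro z hz _ ⟨u, hu, rfl⟩ k y hy hne hthin
      simp only [hact] at hy hne hthin
      obtain ⟨v, hv, z', hz', h⟩ := S.Z_thin z hz u hu k y hy hne hthin
      exact ⟨π v, Subgroup.mem_map_of_mem π hv, z', hz', by rw [hact]; exact h⟩
    Z_sep := by
      rintro k x y y' hy hy' hyx hy'x hne _ ⟨u, hu, rfl⟩ _ ⟨v, hv, rfl⟩ z hz z' hz' e e'
      rw [hact] at e e'
      exact S.Z_sep k x y y' hy hy' hyx hy'x hne u hu v hv z hz z' hz' e e'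
    p_group := S.p_group.map π
    pel := by
      intro g hg hC
      obtain ⟨h, rfl⟩ := hπ g
      obtain ⟨c, hc, hk⟩ := exists_p_lift hg rfl
      rw [hact] at hC
      refine ⟨h ^ c, S.pel _ hk ?_, hc⟩
      exact (stabilizer H S.C).pow_mem hC c
    fixed := fun g hg => by
      obtain ⟨h, rfl⟩ := hπ g
      rw [hact]
      refine S.fixed h fun u hu => ?_
      have := hg _ (Subgroup.mem_map_of_mem π hu)
      simpa only [hact] using this }

end Sys

section Simple

variable [MulAction G X] [Finite G] [Fact p.Prime] (S : Sys p G X K)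

namespace Sys

theorem exists_sylow_eq_U : ∃ P : Sylow p G, (P : Subgroup G) = S.U := by
  obtain ⟨P, hP⟩ := S.p_group.exists_le_sylow
  refine ⟨P, le_antisymm ?_ hP⟩
  by_contra hne
  have hlt : S.U.subgroupOf (P : Subgroup G) < ⊤ := by
    rw [lt_top_iff_ne_top, Ne, Subgroup.subgroupOf_eq_top]
    exact hne
  haveI := P.isPGroup'.isNilpotent
  obtain ⟨y, hy1, hy2⟩ := SetLike.exists_of_lt
    (Group.normalizerCondition_of_isNilpotent (G := (P : Subgroup G)) _ hlt)
  refine hy2 ?_
  rw [Subgroup.mem_subgroupOf]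
  obtain ⟨k, hk⟩ := P.isPGroup' y
  refine S.pel _ ⟨k, by simpa [Subtype.ext_iff] using hk⟩ (mem_stabilizer_iff.1 ?_)
  rw [← S.normalizer_U, Subgroup.mem_normalizer_iff]
  intro u
  have hn := Subgroup.mem_normalizer_iff.1 hy1
  constructor
  · intro hu
    exact (Subgroup.mem_subgroupOf.1 ((hn ⟨u, hP hu⟩).1 (Subgroup.mem_subgroupOf.2 hu)))
  · intro hu
    have huP : u ∈ (P : Subgroup G) := by
      have h1 := mul_mem (mul_mem (inv_mem y.2) (hP hu)) y.2
      simpa [mul_assoc] using h1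
    exact Subgroup.mem_subgroupOf.1 ((hn ⟨u, huP⟩).2 (Subgroup.mem_subgroupOf.2 hu))

theorem faithful [IsSimpleGroup G] {g : G} (hg : ∀ h : G, g • h • S.C = h • S.C) : g = 1 := by
  have hnorm : (stabilizer G S.C).normalCore = ⊥ := by
    rcases (Subgroup.normalCore_normal (stabilizer G S.C)).eq_bot_or_eq_top with h | h
    · exact h
    exfalso
    have hall : stabilizer G S.C = ⊤ := top_le_iff.1 (h ▸ Subgroup.normalCore_le _)
    apply S.U_ne
    rw [eq_bot_iff]
    intro u hu
    obtain ⟨g, hg⟩ := S.exists_stab S.x₀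
    refine Subgroup.mem_bot.2 (S.U_free u hu (mem_stabilizer_iff.1 ?_))
    rw [hg, stabilizer_smul_eq_stabilizer_map_conj, hall,
      Subgroup.map_top_of_surjective _ (MulAut.conj g).surjective]
    trivial
  rw [← Subgroup.mem_bot, ← hnorm]
  intro h
  have h1 := hg h⁻¹
  show (h * g * h⁻¹) • S.C = S.C
  rw [mul_smul, mul_smul, h1, smul_inv_smul]

include S in
/-- An automorphism of order prime to `p` centralising a Sylow `p`-subgroup is trivial. -/
theorem aut_eq_one [IsSimpleGroup G] (α : MulAut G) (hα : ¬ p ∣ orderOf α) (P : Sylow p G)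
    (hfix : ∀ x ∈ (P : Subgroup G), α x = x) : α = 1 := by
  obtain ⟨P₀, hP₀⟩ := S.exists_sylow_eq_U
  obtain ⟨g, hg⟩ := MulAction.exists_smul_eq G P₀ P
  have hmem : ∀ u ∈ S.U, g * u * g⁻¹ ∈ (P : Subgroup G) := fun u hu => by
    rw [← hg, Sylow.coe_subgroup_smul]
    exact ⟨u, hP₀ ▸ hu, rfl⟩
  have h1 : (MulAut.conj g)⁻¹ * α * MulAut.conj g = 1 := by
    refine S.eq_one (o := orderOf α) (fun u hu => ?_) ?_ ?_ fun x => S.faithful
    · show (MulAut.conj g)⁻¹ (α (g * u * g⁻¹)) = u
      rw [hfix _ (hmem u hu)]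
      simp [mul_assoc]
    · have h2 : ((MulAut.conj g)⁻¹ * α * MulAut.conj g) =
          MulAut.conj (MulAut.conj g)⁻¹ α := by simp
      rw [h2, ← map_pow, pow_orderOf_eq_one, map_one]
    · exact ((Fact.out : p.Prime).coprime_iff_not_dvd.2 hα).symm
  rw [mul_assoc, inv_mul_eq_one] at h1
  exact (mul_eq_right.1 h1.symm)

end Sys

end Simple

/-- The conclusion for a simple image of a group with a chamber system. -/
theorem aut_eq_one_of_surjective [Finite H] [Finite G] [IsSimpleGroup G] [Fact p.Prime]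
    (S : Sys p H X K) (π : H →* G) (hπ : Function.Surjective π)
    (hker : ∀ n ∈ π.ker, n • S.C = S.C) (α : MulAut G) (hα : ¬ p ∣ orderOf α) (P : Sylow p G)
    (hfix : ∀ x ∈ (P : Subgroup G), α x = x) : α = 1 := by
  have h : ∀ n ∈ π.ker, ∀ x : X, n • x = x := fun n hn x => S.fix_all_of_fix_C hker hn x
  letI := Sys.quotAct π hπ h
  exact (S.push π hπ fun a x => Sys.quotAct_smul a x).aut_eq_one α hα P hfix

end Cfsg.Agent.Lib.LieChambers
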